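import Cfsg.Agent.H494.B0R.Arith
import Cfsg.Agent.H602.B0R.Front

/-!
# Instances of the arithmetic, form B

`G_p_q (h : Nat.card S = 2 ^ .. * ..) (hbad : ∀ g : S, ∀ d ∈ [...], ¬ d ∣ orderOf g) : ∀ g : S, Gen0 (orderOf g) p q`
for every sporadic group `G` and every pair of primes `p < q` dividing `|G|` exactly once; the list is the complete
list of the minimal bad orders for this pair. `gen0_symm` exchanges `p` and `q`.
-/

set_option autoImplicit false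

namespace Cfsg.Agent.H494.B0R

universe u

open Cfsg.Agent.H602.B0R (Gen0)

theorem gen0_symm {o p q : ℕ} (h : Gen0 o p q) : Gen0 o q p :=
  fun H a b c d => h H c d a b

/-- no element of order `d` -/
theorem not_dvd_of_ne {G : Type u} [Group G] [Finite G] {d : ℕ} (h : ∀ g : G, orderOf g ≠ d) (g : G) :
    ¬ d ∣ orderOf g := by
  rintro ⟨c, hc⟩
  have h0 : orderOf g ≠ 0 := (orderOf_pos g).ne'
  have hc0 : c ≠ 0 := by rintro rfl; exact h0 (by rw [hc, mul_zero])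
  apply h (g ^ c)
  rw [orderOf_pow_of_dvd hc0 ⟨d, by rw [hc, mul_comm]⟩, hc, Nat.mul_div_cancel _ (Nat.pos_of_ne_zero hc0)]

theorem gen0_group {G : Type u} [Group G] [Finite G] {fac : List (ℕ × ℕ)} {p q : ℕ} {bad : List ℕ} {N : ℕ}
    (hG : Nat.card G = N) (hN : N = val fac) (hp : p.Prime) (hq : q.Prime)
    (hchk : check fac p q bad = true) (hbad : ∀ g : G, ∀ d ∈ bad, ¬ d ∣ orderOf g) (g : G) :
    Gen0 (orderOf g) p q :=
  gen0_of_check hp hq hchk (hN ▸ hG ▸ orderOf_dvd_natCard g) (hbad g)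

/-! ### M -/

theorem M_17_19 {S : Type u} [Group S] [Finite S] (h : Nat.card S = 2 ^ 46 * 3 ^ 20 * 5 ^ 9 * 7 ^ 6 * 11 ^ 2 * 13 ^ 3 * 17 * 19 * 23 * 29 * 31 * 41 * 47 * 59 * 71)
    (hbad : ∀ g : S, ∀ d ∈ ([9, 11 * 31, 13 * 31, 23 * 121, 29 * 71, 11 * 25 * 41, 11 * 25 * 71, 11 * 41 * 71, 25 * 31 * 41, 25 * 31 * 71, 25 * 41 * 71, 31 * 41 * 71] : List ℕ), ¬ d ∣ orderOf g) : ∀ g : S, Gen0 (orderOf g) 17 19 :=
  gen0_group (fac := [(2, 46), (3, 20), (5, 9), (7, 6), (11, 2), (13, 3), (17, 1), (19, 1), (23, 1), (29, 1), (31, 1), (41, 1), (47, 1), (59, 1), (71, 1)]) h (by decide +kernel) (by norm_num) (by norm_num) (by decide +kernel) hbad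

theorem M_17_23 {S : Type u} [Group S] [Finite S] (h : Nat.card S = 2 ^ 46 * 3 ^ 20 * 5 ^ 9 * 7 ^ 6 * 11 ^ 2 * 13 ^ 3 * 17 * 19 * 23 * 29 * 31 * 41 * 47 * 59 * 71)
    (hbad : ∀ g : S, ∀ d ∈ ([7 * 13, 7 * 19, 11 * 71, 13 * 19, 25 * 41, 29 * 71, 7 * 9 * 31, 9 * 13 * 31, 9 * 19 * 31, 11 * 25 * 31, 11 * 31 * 41, 25 * 31 * 71, 31 * 41 * 71] : List ℕ), ¬ d ∣ orderOf g) : ∀ g : S, Gen0 (orderOf g) 17 23 :=
  gen0_group (fac := [(2, 46), (3, 20), (5, 9), (7, 6), (11, 2), (13, 3), (17, 1), (19, 1), (23, 1), (29, 1), (31, 1), (41, 1), (47, 1), (59, 1), (71, 1)]) h (by decide +kernel) (by norm_num) (by norm_num) (by decide +kernel) hbad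

theorem M_17_29 {S : Type u} [Group S] [Finite S] (h : Nat.card S = 2 ^ 46 * 3 ^ 20 * 5 ^ 9 * 7 ^ 6 * 11 ^ 2 * 13 ^ 3 * 17 * 19 * 23 * 29 * 31 * 41 * 47 * 59 * 71)
    (hbad : ∀ g : S, ∀ d ∈ ([7 * 31, 13 * 19, 25 * 41, 31 * 71, 7 * 9 * 13, 7 * 9 * 19, 9 * 13 * 31, 9 * 19 * 31, 11 * 25 * 31, 11 * 25 * 71, 11 * 31 * 41, 11 * 41 * 71] : List ℕ), ¬ d ∣ orderOf g) : ∀ g : S, Gen0 (orderOf g) 17 29 :=
  gen0_group (fac := [(2, 46), (3, 20), (5, 9), (7, 6), (11, 2), (13, 3), (17, 1), (19, 1), (23, 1), (29, 1), (31, 1), (41, 1), (47, 1), (59, 1), (71, 1)]) h (by decide +kernel) (by norm_num) (by norm_num) (by decide +kernel) hbad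

theorem M_17_31 {S : Type u} [Group S] [Finite S] (h : Nat.card S = 2 ^ 46 * 3 ^ 20 * 5 ^ 9 * 7 ^ 6 * 11 ^ 2 * 13 ^ 3 * 17 * 19 * 23 * 29 * 31 * 41 * 47 * 59 * 71)
    (hbad : ∀ g : S, ∀ d ∈ ([11 * 71, 13 * 19, 23 * 121, 25 * 41, 29 * 71, 7 * 9 * 13, 7 * 9 * 19] : List ℕ), ¬ d ∣ orderOf g) : ∀ g : S, Gen0 (orderOf g) 17 31 :=
  gen0_group (fac := [(2, 46), (3, 20), (5, 9), (7, 6), (11, 2), (13, 3), (17, 1), (19, 1), (23, 1), (29, 1), (31, 1), (41, 1), (47, 1), (59, 1), (71, 1)]) h (by decide +kernel) (by norm_num) (by norm_num) (by decide +kernel) hbad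

theorem M_17_41 {S : Type u} [Group S] [Finite S] (h : Nat.card S = 2 ^ 46 * 3 ^ 20 * 5 ^ 9 * 7 ^ 6 * 11 ^ 2 * 13 ^ 3 * 17 * 19 * 23 * 29 * 31 * 41 * 47 * 59 * 71)
    (hbad : ∀ g : S, ∀ d ∈ ([29, 11 * 31, 13 * 31, 7 * 9 * 13, 7 * 9 * 19, 7 * 9 * 31, 7 * 13 * 19, 7 * 19 * 31, 9 * 13 * 19, 9 * 19 * 31, 11 * 25 * 71, 25 * 31 * 71] : List ℕ), ¬ d ∣ orderOf g) : ∀ g : S, Gen0 (orderOf g) 17 41 :=
  gen0_group (fac := [(2, 46), (3, 20), (5, 9), (7, 6), (11, 2), (13, 3), (17, 1), (19, 1), (23, 1), (29, 1), (31, 1), (41, 1), (47, 1), (59, 1), (71, 1)]) h (by decide +kernel) (by norm_num) (by norm_num) (by decide +kernel) hbad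

theorem M_17_47 {S : Type u} [Group S] [Finite S] (h : Nat.card S = 2 ^ 46 * 3 ^ 20 * 5 ^ 9 * 7 ^ 6 * 11 ^ 2 * 13 ^ 3 * 17 * 19 * 23 * 29 * 31 * 41 * 47 * 59 * 71)
    (hbad : ∀ g : S, ∀ d ∈ ([7 * 19, 11 * 41, 13 * 31, 29 * 71, 7 * 9 * 13, 7 * 9 * 31, 9 * 13 * 19, 9 * 19 * 31, 11 * 25 * 31, 11 * 25 * 71, 11 * 31 * 71, 25 * 31 * 41, 25 * 31 * 71, 25 * 41 * 71, 31 * 41 * 71] : List ℕ), ¬ d ∣ orderOf g) : ∀ g : S, Gen0 (orderOf g) 17 47 :=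
  gen0_group (fac := [(2, 46), (3, 20), (5, 9), (7, 6), (11, 2), (13, 3), (17, 1), (19, 1), (23, 1), (29, 1), (31, 1), (41, 1), (47, 1), (59, 1), (71, 1)]) h (by decide +kernel) (by norm_num) (by norm_num) (by decide +kernel) hbad

theorem M_17_59 {S : Type u} [Group S] [Finite S] (h : Nat.card S = 2 ^ 46 * 3 ^ 20 * 5 ^ 9 * 7 ^ 6 * 11 ^ 2 * 13 ^ 3 * 17 * 19 * 23 * 29 * 31 * 41 * 47 * 59 * 71)
    (hbad : ∀ g : S, ∀ d ∈ ([29, 7 * 13, 7 * 19, 7 * 31, 11 * 25, 11 * 31, 13 * 19, 13 * 31, 19 * 31, 23 * 121, 25 * 31, 41 * 71] : List ℕ), ¬ d ∣ orderOf g) : ∀ g : S, Gen0 (orderOf g) 17 59 :=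
  gen0_group (fac := [(2, 46), (3, 20), (5, 9), (7, 6), (11, 2), (13, 3), (17, 1), (19, 1), (23, 1), (29, 1), (31, 1), (41, 1), (47, 1), (59, 1), (71, 1)]) h (by decide +kernel) (by norm_num) (by norm_num) (by decide +kernel) hbad

theorem M_17_71 {S : Type u} [Group S] [Finite S] (h : Nat.card S = 2 ^ 46 * 3 ^ 20 * 5 ^ 9 * 7 ^ 6 * 11 ^ 2 * 13 ^ 3 * 17 * 19 * 23 * 29 * 31 * 41 * 47 * 59 * 71)
    (hbad : ∀ g : S, ∀ d ∈ ([9, 11 * 31, 11 * 41, 13 * 19, 31 * 41, 7 * 13 * 31, 7 * 19 * 31] : List ℕ), ¬ d ∣ orderOf g) : ∀ g : S, Gen0 (orderOf g) 17 71 :=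
  gen0_group (fac := [(2, 46), (3, 20), (5, 9), (7, 6), (11, 2), (13, 3), (17, 1), (19, 1), (23, 1), (29, 1), (31, 1), (41, 1), (47, 1), (59, 1), (71, 1)]) h (by decide +kernel) (by norm_num) (by norm_num) (by decide +kernel) hbad

theorem M_19_23 {S : Type u} [Group S] [Finite S] (h : Nat.card S = 2 ^ 46 * 3 ^ 20 * 5 ^ 9 * 7 ^ 6 * 11 ^ 2 * 13 ^ 3 * 17 * 19 * 23 * 29 * 31 * 41 * 47 * 59 * 71)
    (hbad : ∀ g : S, ∀ d ∈ ([169, 11 * 71, 7 * 9 * 13, 7 * 9 * 31, 7 * 13 * 31, 9 * 13 * 31, 11 * 25 * 31, 11 * 25 * 41, 11 * 31 * 41, 25 * 31 * 41, 25 * 31 * 71, 25 * 41 * 71, 29 * 49 * 71, 31 * 41 * 71] : List ℕ), ¬ d ∣ orderOf g) : ∀ g : S, Gen0 (orderOf g) 19 23 :=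
  gen0_group (fac := [(2, 46), (3, 20), (5, 9), (7, 6), (11, 2), (13, 3), (17, 1), (19, 1), (23, 1), (29, 1), (31, 1), (41, 1), (47, 1), (59, 1), (71, 1)]) h (by decide +kernel) (by norm_num) (by norm_num) (by decide +kernel) hbad

theorem M_19_29 {S : Type u} [Group S] [Finite S] (h : Nat.card S = 2 ^ 46 * 3 ^ 20 * 5 ^ 9 * 7 ^ 6 * 11 ^ 2 * 13 ^ 3 * 17 * 19 * 23 * 29 * 31 * 41 * 47 * 59 * 71)
    (hbad : ∀ g : S, ∀ d ∈ ([7 * 31, 11 * 25, 41 * 71, 7 * 9 * 13, 9 * 13 * 31, 11 * 31 * 41, 11 * 31 * 71, 25 * 31 * 41, 25 * 31 * 71] : List ℕ), ¬ d ∣ orderOf g) : ∀ g : S, Gen0 (orderOf g) 19 29 :=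
  gen0_group (fac := [(2, 46), (3, 20), (5, 9), (7, 6), (11, 2), (13, 3), (17, 1), (19, 1), (23, 1), (29, 1), (31, 1), (41, 1), (47, 1), (59, 1), (71, 1)]) h (by decide +kernel) (by norm_num) (by norm_num) (by decide +kernel) hbad

theorem M_19_31 {S : Type u} [Group S] [Finite S] (h : Nat.card S = 2 ^ 46 * 3 ^ 20 * 5 ^ 9 * 7 ^ 6 * 11 ^ 2 * 13 ^ 3 * 17 * 19 * 23 * 29 * 31 * 41 * 47 * 59 * 71)
    (hbad : ∀ g : S, ∀ d ∈ ([49, 11 * 41, 23 * 121, 25 * 71, 7 * 9 * 13] : List ℕ), ¬ d ∣ orderOf g) : ∀ g : S, Gen0 (orderOf g) 19 31 :=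
  gen0_group (fac := [(2, 46), (3, 20), (5, 9), (7, 6), (11, 2), (13, 3), (17, 1), (19, 1), (23, 1), (29, 1), (31, 1), (41, 1), (47, 1), (59, 1), (71, 1)]) h (by decide +kernel) (by norm_num) (by norm_num) (by decide +kernel) hbad

theorem M_19_41 {S : Type u} [Group S] [Finite S] (h : Nat.card S = 2 ^ 46 * 3 ^ 20 * 5 ^ 9 * 7 ^ 6 * 11 ^ 2 * 13 ^ 3 * 17 * 19 * 23 * 29 * 31 * 41 * 47 * 59 * 71)
    (hbad : ∀ g : S, ∀ d ∈ ([11 * 31, 13 * 31, 7 * 9 * 13, 7 * 9 * 31, 11 * 25 * 71, 25 * 31 * 71, 29 * 49 * 71] : List ℕ), ¬ d ∣ orderOf g) : ∀ g : S, Gen0 (orderOf g) 19 41 :=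
  gen0_group (fac := [(2, 46), (3, 20), (5, 9), (7, 6), (11, 2), (13, 3), (17, 1), (19, 1), (23, 1), (29, 1), (31, 1), (41, 1), (47, 1), (59, 1), (71, 1)]) h (by decide +kernel) (by norm_num) (by norm_num) (by decide +kernel) hbad

theorem M_19_47 {S : Type u} [Group S] [Finite S] (h : Nat.card S = 2 ^ 46 * 3 ^ 20 * 5 ^ 9 * 7 ^ 6 * 11 ^ 2 * 13 ^ 3 * 17 * 19 * 23 * 29 * 31 * 41 * 47 * 59 * 71)
    (hbad : ∀ g : S, ∀ d ∈ ([13 * 31, 25 * 31, 25 * 41, 25 * 71, 31 * 41, 31 * 71, 41 * 71, 7 * 9 * 13, 7 * 9 * 31, 29 * 49 * 71] : List ℕ), ¬ d ∣ orderOf g) : ∀ g : S, Gen0 (orderOf g) 19 47 :=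
  gen0_group (fac := [(2, 46), (3, 20), (5, 9), (7, 6), (11, 2), (13, 3), (17, 1), (19, 1), (23, 1), (29, 1), (31, 1), (41, 1), (47, 1), (59, 1), (71, 1)]) h (by decide +kernel) (by norm_num) (by norm_num) (by decide +kernel) hbad

theorem M_19_59 {S : Type u} [Group S] [Finite S] (h : Nat.card S = 2 ^ 46 * 3 ^ 20 * 5 ^ 9 * 7 ^ 6 * 11 ^ 2 * 13 ^ 3 * 17 * 19 * 23 * 29 * 31 * 41 * 47 * 59 * 71)
    (hbad : ∀ g : S, ∀ d ∈ ([11 * 31, 11 * 41, 13 * 31, 23 * 121, 25 * 71, 31 * 41, 7 * 9 * 13, 7 * 9 * 31, 29 * 49 * 71] : List ℕ), ¬ d ∣ orderOf g) : ∀ g : S, Gen0 (orderOf g) 19 59 :=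
  gen0_group (fac := [(2, 46), (3, 20), (5, 9), (7, 6), (11, 2), (13, 3), (17, 1), (19, 1), (23, 1), (29, 1), (31, 1), (41, 1), (47, 1), (59, 1), (71, 1)]) h (by decide +kernel) (by norm_num) (by norm_num) (by decide +kernel) hbad

theorem M_19_71 {S : Type u} [Group S] [Finite S] (h : Nat.card S = 2 ^ 46 * 3 ^ 20 * 5 ^ 9 * 7 ^ 6 * 11 ^ 2 * 13 ^ 3 * 17 * 19 * 23 * 29 * 31 * 41 * 47 * 59 * 71)
    (hbad : ∀ g : S, ∀ d ∈ ([9, 11 * 31, 7 * 13 * 31, 11 * 25 * 41, 25 * 31 * 41] : List ℕ), ¬ d ∣ orderOf g) : ∀ g : S, Gen0 (orderOf g) 19 71 :=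
  gen0_group (fac := [(2, 46), (3, 20), (5, 9), (7, 6), (11, 2), (13, 3), (17, 1), (19, 1), (23, 1), (29, 1), (31, 1), (41, 1), (47, 1), (59, 1), (71, 1)]) h (by decide +kernel) (by norm_num) (by norm_num) (by decide +kernel) hbad

theorem M_23_29 {S : Type u} [Group S] [Finite S] (h : Nat.card S = 2 ^ 46 * 3 ^ 20 * 5 ^ 9 * 7 ^ 6 * 11 ^ 2 * 13 ^ 3 * 17 * 19 * 23 * 29 * 31 * 41 * 47 * 59 * 71)
    (hbad : ∀ g : S, ∀ d ∈ ([31, 11 * 71, 13 * 19, 25 * 41, 7 * 9 * 13, 7 * 9 * 19] : List ℕ), ¬ d ∣ orderOf g) : ∀ g : S, Gen0 (orderOf g) 23 29 :=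
  gen0_group (fac := [(2, 46), (3, 20), (5, 9), (7, 6), (11, 2), (13, 3), (17, 1), (19, 1), (23, 1), (29, 1), (31, 1), (41, 1), (47, 1), (59, 1), (71, 1)]) h (by decide +kernel) (by norm_num) (by norm_num) (by decide +kernel) hbad

theorem M_23_31 {S : Type u} [Group S] [Finite S] (h : Nat.card S = 2 ^ 46 * 3 ^ 20 * 5 ^ 9 * 7 ^ 6 * 11 ^ 2 * 13 ^ 3 * 17 * 19 * 23 * 29 * 31 * 41 * 47 * 59 * 71)
    (hbad : ∀ g : S, ∀ d ∈ ([11 * 71, 13 * 19, 25 * 41, 7 * 9 * 13, 7 * 9 * 19, 29 * 49 * 71] : List ℕ), ¬ d ∣ orderOf g) : ∀ g : S, Gen0 (orderOf g) 23 31 :=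
  gen0_group (fac := [(2, 46), (3, 20), (5, 9), (7, 6), (11, 2), (13, 3), (17, 1), (19, 1), (23, 1), (29, 1), (31, 1), (41, 1), (47, 1), (59, 1), (71, 1)]) h (by decide +kernel) (by norm_num) (by norm_num) (by decide +kernel) hbad

theorem M_23_41 {S : Type u} [Group S] [Finite S] (h : Nat.card S = 2 ^ 46 * 3 ^ 20 * 5 ^ 9 * 7 ^ 6 * 11 ^ 2 * 13 ^ 3 * 17 * 19 * 23 * 29 * 31 * 41 * 47 * 59 * 71)
    (hbad : ∀ g : S, ∀ d ∈ ([71, 9 * 13, 7 * 9 * 19, 7 * 9 * 31, 7 * 13 * 19, 7 * 13 * 31, 7 * 19 * 31, 9 * 19 * 31, 11 * 25 * 31, 13 * 19 * 31] : List ℕ), ¬ d ∣ orderOf g) : ∀ g : S, Gen0 (orderOf g) 23 41 :=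
  gen0_group (fac := [(2, 46), (3, 20), (5, 9), (7, 6), (11, 2), (13, 3), (17, 1), (19, 1), (23, 1), (29, 1), (31, 1), (41, 1), (47, 1), (59, 1), (71, 1)]) h (by decide +kernel) (by norm_num) (by norm_num) (by decide +kernel) hbad

theorem M_23_47 {S : Type u} [Group S] [Finite S] (h : Nat.card S = 2 ^ 46 * 3 ^ 20 * 5 ^ 9 * 7 ^ 6 * 11 ^ 2 * 13 ^ 3 * 17 * 19 * 23 * 29 * 31 * 41 * 47 * 59 * 71)
    (hbad : ∀ g : S, ∀ d ∈ ([31, 7 * 19, 11 * 71, 7 * 9 * 13, 9 * 13 * 19, 11 * 25 * 41, 25 * 41 * 71, 29 * 49 * 71] : List ℕ), ¬ d ∣ orderOf g) : ∀ g : S, Gen0 (orderOf g) 23 47 :=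
  gen0_group (fac := [(2, 46), (3, 20), (5, 9), (7, 6), (11, 2), (13, 3), (17, 1), (19, 1), (23, 1), (29, 1), (31, 1), (41, 1), (47, 1), (59, 1), (71, 1)]) h (by decide +kernel) (by norm_num) (by norm_num) (by decide +kernel) hbad

theorem M_23_59 {S : Type u} [Group S] [Finite S] (h : Nat.card S = 2 ^ 46 * 3 ^ 20 * 5 ^ 9 * 7 ^ 6 * 11 ^ 2 * 13 ^ 3 * 17 * 19 * 23 * 29 * 31 * 41 * 47 * 59 * 71)
    (hbad : ∀ g : S, ∀ d ∈ ([7 * 13, 7 * 19, 11 * 71, 13 * 19, 7 * 9 * 31, 9 * 13 * 31, 9 * 19 * 31, 11 * 25 * 31, 11 * 25 * 41, 11 * 31 * 41, 25 * 31 * 41, 25 * 31 * 71, 25 * 41 * 71, 29 * 49 * 71, 31 * 41 * 71] : List ℕ), ¬ d ∣ orderOf g) : ∀ g : S, Gen0 (orderOf g) 23 59 :=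
  gen0_group (fac := [(2, 46), (3, 20), (5, 9), (7, 6), (11, 2), (13, 3), (17, 1), (19, 1), (23, 1), (29, 1), (31, 1), (41, 1), (47, 1), (59, 1), (71, 1)]) h (by decide +kernel) (by norm_num) (by norm_num) (by decide +kernel) hbad

theorem M_23_71 {S : Type u} [Group S] [Finite S] (h : Nat.card S = 2 ^ 46 * 3 ^ 20 * 5 ^ 9 * 7 ^ 6 * 11 ^ 2 * 13 ^ 3 * 17 * 19 * 23 * 29 * 31 * 41 * 47 * 59 * 71)
    (hbad : ∀ g : S, ∀ d ∈ ([7 * 9, 13 * 19, 7 * 13 * 31, 7 * 19 * 31, 9 * 13 * 31, 9 * 19 * 31, 11 * 25 * 31, 11 * 25 * 41, 11 * 31 * 41, 25 * 31 * 41] : List ℕ), ¬ d ∣ orderOf g) : ∀ g : S, Gen0 (orderOf g) 23 71 :=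
  gen0_group (fac := [(2, 46), (3, 20), (5, 9), (7, 6), (11, 2), (13, 3), (17, 1), (19, 1), (23, 1), (29, 1), (31, 1), (41, 1), (47, 1), (59, 1), (71, 1)]) h (by decide +kernel) (by norm_num) (by norm_num) (by decide +kernel) hbad

theorem M_29_31 {S : Type u} [Group S] [Finite S] (h : Nat.card S = 2 ^ 46 * 3 ^ 20 * 5 ^ 9 * 7 ^ 6 * 11 ^ 2 * 13 ^ 3 * 17 * 19 * 23 * 29 * 31 * 41 * 47 * 59 * 71)
    (hbad : ∀ g : S, ∀ d ∈ ([13 * 19, 25 * 41, 7 * 9 * 13, 7 * 9 * 19, 11 * 25 * 71, 11 * 41 * 71] : List ℕ), ¬ d ∣ orderOf g) : ∀ g : S, Gen0 (orderOf g) 29 31 :=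
  gen0_group (fac := [(2, 46), (3, 20), (5, 9), (7, 6), (11, 2), (13, 3), (17, 1), (19, 1), (23, 1), (29, 1), (31, 1), (41, 1), (47, 1), (59, 1), (71, 1)]) h (by decide +kernel) (by norm_num) (by norm_num) (by decide +kernel) hbad

theorem M_29_41 {S : Type u} [Group S] [Finite S] (h : Nat.card S = 2 ^ 46 * 3 ^ 20 * 5 ^ 9 * 7 ^ 6 * 11 ^ 2 * 13 ^ 3 * 17 * 19 * 23 * 29 * 31 * 41 * 47 * 59 * 71)
    (hbad : ∀ g : S, ∀ d ∈ ([7, 9 * 19, 9 * 13 * 31, 11 * 25 * 31, 11 * 25 * 71, 11 * 31 * 71, 13 * 19 * 31, 25 * 31 * 71] : List ℕ), ¬ d ∣ orderOf g) : ∀ g : S, Gen0 (orderOf g) 29 41 :=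
  gen0_group (fac := [(2, 46), (3, 20), (5, 9), (7, 6), (11, 2), (13, 3), (17, 1), (19, 1), (23, 1), (29, 1), (31, 1), (41, 1), (47, 1), (59, 1), (71, 1)]) h (by decide +kernel) (by norm_num) (by norm_num) (by decide +kernel) hbad

theorem M_29_47 {S : Type u} [Group S] [Finite S] (h : Nat.card S = 2 ^ 46 * 3 ^ 20 * 5 ^ 9 * 7 ^ 6 * 11 ^ 2 * 13 ^ 3 * 17 * 19 * 23 * 29 * 31 * 41 * 47 * 59 * 71)
    (hbad : ∀ g : S, ∀ d ∈ ([31, 9 * 19, 41 * 71, 7 * 9 * 13, 7 * 13 * 19, 11 * 25 * 41, 11 * 25 * 71] : List ℕ), ¬ d ∣ orderOf g) : ∀ g : S, Gen0 (orderOf g) 29 47 :=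
  gen0_group (fac := [(2, 46), (3, 20), (5, 9), (7, 6), (11, 2), (13, 3), (17, 1), (19, 1), (23, 1), (29, 1), (31, 1), (41, 1), (47, 1), (59, 1), (71, 1)]) h (by decide +kernel) (by norm_num) (by norm_num) (by decide +kernel) hbad

theorem M_29_59 {S : Type u} [Group S] [Finite S] (h : Nat.card S = 2 ^ 46 * 3 ^ 20 * 5 ^ 9 * 7 ^ 6 * 11 ^ 2 * 13 ^ 3 * 17 * 19 * 23 * 29 * 31 * 41 * 47 * 59 * 71)
    (hbad : ∀ g : S, ∀ d ∈ ([7 * 31, 9 * 13, 9 * 19, 11 * 71, 13 * 19, 11 * 25 * 31, 11 * 25 * 41, 11 * 31 * 41, 25 * 31 * 41, 25 * 31 * 71, 25 * 41 * 71, 31 * 41 * 71] : List ℕ), ¬ d ∣ orderOf g) : ∀ g : S, Gen0 (orderOf g) 29 59 :=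
  gen0_group (fac := [(2, 46), (3, 20), (5, 9), (7, 6), (11, 2), (13, 3), (17, 1), (19, 1), (23, 1), (29, 1), (31, 1), (41, 1), (47, 1), (59, 1), (71, 1)]) h (by decide +kernel) (by norm_num) (by norm_num) (by decide +kernel) hbad

theorem M_29_71 {S : Type u} [Group S] [Finite S] (h : Nat.card S = 2 ^ 46 * 3 ^ 20 * 5 ^ 9 * 7 ^ 6 * 11 ^ 2 * 13 ^ 3 * 17 * 19 * 23 * 29 * 31 * 41 * 47 * 59 * 71)
    (hbad : ∀ g : S, ∀ d ∈ ([7, 13 * 19, 9 * 13 * 31, 9 * 19 * 31, 11 * 25 * 31, 11 * 25 * 41, 11 * 31 * 41, 25 * 31 * 41] : List ℕ), ¬ d ∣ orderOf g) : ∀ g : S, Gen0 (orderOf g) 29 71 :=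
  gen0_group (fac := [(2, 46), (3, 20), (5, 9), (7, 6), (11, 2), (13, 3), (17, 1), (19, 1), (23, 1), (29, 1), (31, 1), (41, 1), (47, 1), (59, 1), (71, 1)]) h (by decide +kernel) (by norm_num) (by norm_num) (by decide +kernel) hbad

theorem M_31_41 {S : Type u} [Group S] [Finite S] (h : Nat.card S = 2 ^ 46 * 3 ^ 20 * 5 ^ 9 * 7 ^ 6 * 11 ^ 2 * 13 ^ 3 * 17 * 19 * 23 * 29 * 31 * 41 * 47 * 59 * 71)
    (hbad : ∀ g : S, ∀ d ∈ ([11 * 25, 13 * 19, 7 * 9 * 13, 7 * 9 * 19, 29 * 49 * 71] : List ℕ), ¬ d ∣ orderOf g) : ∀ g : S, Gen0 (orderOf g) 31 41 :=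
  gen0_group (fac := [(2, 46), (3, 20), (5, 9), (7, 6), (11, 2), (13, 3), (17, 1), (19, 1), (23, 1), (29, 1), (31, 1), (41, 1), (47, 1), (59, 1), (71, 1)]) h (by decide +kernel) (by norm_num) (by norm_num) (by decide +kernel) hbad

theorem M_31_47 {S : Type u} [Group S] [Finite S] (h : Nat.card S = 2 ^ 46 * 3 ^ 20 * 5 ^ 9 * 7 ^ 6 * 11 ^ 2 * 13 ^ 3 * 17 * 19 * 23 * 29 * 31 * 41 * 47 * 59 * 71)
    (hbad : ∀ g : S, ∀ d ∈ ([13, 7 * 9, 25 * 71, 29 * 71, 11 * 25 * 41, 11 * 41 * 71] : List ℕ), ¬ d ∣ orderOf g) : ∀ g : S, Gen0 (orderOf g) 31 47 :=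
  gen0_group (fac := [(2, 46), (3, 20), (5, 9), (7, 6), (11, 2), (13, 3), (17, 1), (19, 1), (23, 1), (29, 1), (31, 1), (41, 1), (47, 1), (59, 1), (71, 1)]) h (by decide +kernel) (by norm_num) (by norm_num) (by decide +kernel) hbad

theorem M_31_59 {S : Type u} [Group S] [Finite S] (h : Nat.card S = 2 ^ 46 * 3 ^ 20 * 5 ^ 9 * 7 ^ 6 * 11 ^ 2 * 13 ^ 3 * 17 * 19 * 23 * 29 * 31 * 41 * 47 * 59 * 71)
    (hbad : ∀ g : S, ∀ d ∈ ([7 * 9, 11 * 41, 13 * 19, 23 * 121, 25 * 71, 29 * 49 * 71] : List ℕ), ¬ d ∣ orderOf g) : ∀ g : S, Gen0 (orderOf g) 31 59 :=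
  gen0_group (fac := [(2, 46), (3, 20), (5, 9), (7, 6), (11, 2), (13, 3), (17, 1), (19, 1), (23, 1), (29, 1), (31, 1), (41, 1), (47, 1), (59, 1), (71, 1)]) h (by decide +kernel) (by norm_num) (by norm_num) (by decide +kernel) hbad

theorem M_31_71 {S : Type u} [Group S] [Finite S] (h : Nat.card S = 2 ^ 46 * 3 ^ 20 * 5 ^ 9 * 7 ^ 6 * 11 ^ 2 * 13 ^ 3 * 17 * 19 * 23 * 29 * 31 * 41 * 47 * 59 * 71)
    (hbad : ∀ g : S, ∀ d ∈ ([7 * 9, 11 * 25, 13 * 19] : List ℕ), ¬ d ∣ orderOf g) : ∀ g : S, Gen0 (orderOf g) 31 71 :=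
  gen0_group (fac := [(2, 46), (3, 20), (5, 9), (7, 6), (11, 2), (13, 3), (17, 1), (19, 1), (23, 1), (29, 1), (31, 1), (41, 1), (47, 1), (59, 1), (71, 1)]) h (by decide +kernel) (by norm_num) (by norm_num) (by decide +kernel) hbad

theorem M_41_47 {S : Type u} [Group S] [Finite S] (h : Nat.card S = 2 ^ 46 * 3 ^ 20 * 5 ^ 9 * 7 ^ 6 * 11 ^ 2 * 13 ^ 3 * 17 * 19 * 23 * 29 * 31 * 41 * 47 * 59 * 71)
    (hbad : ∀ g : S, ∀ d ∈ ([9 * 19, 13 * 31, 7 * 9 * 13, 7 * 9 * 31, 7 * 13 * 19, 7 * 19 * 31, 11 * 25 * 31, 11 * 25 * 71, 11 * 31 * 71, 25 * 31 * 71, 29 * 49 * 71] : List ℕ), ¬ d ∣ orderOf g) : ∀ g : S, Gen0 (orderOf g) 41 47 :=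
  gen0_group (fac := [(2, 46), (3, 20), (5, 9), (7, 6), (11, 2), (13, 3), (17, 1), (19, 1), (23, 1), (29, 1), (31, 1), (41, 1), (47, 1), (59, 1), (71, 1)]) h (by decide +kernel) (by norm_num) (by norm_num) (by decide +kernel) hbad

theorem M_41_59 {S : Type u} [Group S] [Finite S] (h : Nat.card S = 2 ^ 46 * 3 ^ 20 * 5 ^ 9 * 7 ^ 6 * 11 ^ 2 * 13 ^ 3 * 17 * 19 * 23 * 29 * 31 * 41 * 47 * 59 * 71)
    (hbad : ∀ g : S, ∀ d ∈ ([29, 9 * 19, 11 * 31, 13 * 31, 49 * 71, 7 * 9 * 13, 7 * 9 * 31, 7 * 13 * 19, 7 * 19 * 31, 11 * 25 * 71, 25 * 31 * 71] : List ℕ), ¬ d ∣ orderOf g) : ∀ g : S, Gen0 (orderOf g) 41 59 :=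
  gen0_group (fac := [(2, 46), (3, 20), (5, 9), (7, 6), (11, 2), (13, 3), (17, 1), (19, 1), (23, 1), (29, 1), (31, 1), (41, 1), (47, 1), (59, 1), (71, 1)]) h (by decide +kernel) (by norm_num) (by norm_num) (by decide +kernel) hbad

theorem M_41_71 {S : Type u} [Group S] [Finite S] (h : Nat.card S = 2 ^ 46 * 3 ^ 20 * 5 ^ 9 * 7 ^ 6 * 11 ^ 2 * 13 ^ 3 * 17 * 19 * 23 * 29 * 31 * 41 * 47 * 59 * 71)
    (hbad : ∀ g : S, ∀ d ∈ ([7, 11 * 25, 11 * 31, 19 * 31, 25 * 31, 9 * 13 * 19, 9 * 13 * 31] : List ℕ), ¬ d ∣ orderOf g) : ∀ g : S, Gen0 (orderOf g) 41 71 :=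
  gen0_group (fac := [(2, 46), (3, 20), (5, 9), (7, 6), (11, 2), (13, 3), (17, 1), (19, 1), (23, 1), (29, 1), (31, 1), (41, 1), (47, 1), (59, 1), (71, 1)]) h (by decide +kernel) (by norm_num) (by norm_num) (by decide +kernel) hbad

theorem M_47_59 {S : Type u} [Group S] [Finite S] (h : Nat.card S = 2 ^ 46 * 3 ^ 20 * 5 ^ 9 * 7 ^ 6 * 11 ^ 2 * 13 ^ 3 * 17 * 19 * 23 * 29 * 31 * 41 * 47 * 59 * 71)
    (hbad : ∀ g : S, ∀ d ∈ ([7 * 9, 7 * 19, 9 * 19, 13 * 31, 25 * 71, 31 * 41, 11 * 25 * 31, 11 * 25 * 41, 11 * 31 * 71, 11 * 41 * 71, 29 * 49 * 71] : List ℕ), ¬ d ∣ orderOf g) : ∀ g : S, Gen0 (orderOf g) 47 59 :=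
  gen0_group (fac := [(2, 46), (3, 20), (5, 9), (7, 6), (11, 2), (13, 3), (17, 1), (19, 1), (23, 1), (29, 1), (31, 1), (41, 1), (47, 1), (59, 1), (71, 1)]) h (by decide +kernel) (by norm_num) (by norm_num) (by decide +kernel) hbad

theorem M_47_71 {S : Type u} [Group S] [Finite S] (h : Nat.card S = 2 ^ 46 * 3 ^ 20 * 5 ^ 9 * 7 ^ 6 * 11 ^ 2 * 13 ^ 3 * 17 * 19 * 23 * 29 * 31 * 41 * 47 * 59 * 71)
    (hbad : ∀ g : S, ∀ d ∈ ([7 * 9, 11 * 41, 13 * 31, 7 * 13 * 19, 7 * 19 * 31, 9 * 13 * 19, 9 * 19 * 31, 11 * 25 * 31, 25 * 31 * 41] : List ℕ), ¬ d ∣ orderOf g) : ∀ g : S, Gen0 (orderOf g) 47 71 :=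
  gen0_group (fac := [(2, 46), (3, 20), (5, 9), (7, 6), (11, 2), (13, 3), (17, 1), (19, 1), (23, 1), (29, 1), (31, 1), (41, 1), (47, 1), (59, 1), (71, 1)]) h (by decide +kernel) (by norm_num) (by norm_num) (by decide +kernel) hbad

theorem M_59_71 {S : Type u} [Group S] [Finite S] (h : Nat.card S = 2 ^ 46 * 3 ^ 20 * 5 ^ 9 * 7 ^ 6 * 11 ^ 2 * 13 ^ 3 * 17 * 19 * 23 * 29 * 31 * 41 * 47 * 59 * 71)
    (hbad : ∀ g : S, ∀ d ∈ ([7 * 9, 11 * 31, 13 * 19, 25 * 41, 7 * 13 * 31, 7 * 19 * 31, 9 * 13 * 31, 9 * 19 * 31] : List ℕ), ¬ d ∣ orderOf g) : ∀ g : S, Gen0 (orderOf g) 59 71 :=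
  gen0_group (fac := [(2, 46), (3, 20), (5, 9), (7, 6), (11, 2), (13, 3), (17, 1), (19, 1), (23, 1), (29, 1), (31, 1), (41, 1), (47, 1), (59, 1), (71, 1)]) h (by decide +kernel) (by norm_num) (by norm_num) (by decide +kernel) hbad

/-! ### B -/

theorem B_11_13 {S : Type u} [Group S] [Finite S] (h : Nat.card S = 2 ^ 41 * 3 ^ 13 * 5 ^ 6 * 7 ^ 2 * 11 * 13 * 17 * 19 * 23 * 31 * 47)
    (hbad : ∀ g : S, ∀ d ∈ ([7 * 9 * 19, 7 * 9 * 31, 7 * 19 * 31, 9 * 19 * 31] : List ℕ), ¬ d ∣ orderOf g) : ∀ g : S, Gen0 (orderOf g) 11 13 :=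
  gen0_group (fac := [(2, 41), (3, 13), (5, 6), (7, 2), (11, 1), (13, 1), (17, 1), (19, 1), (23, 1), (31, 1), (47, 1)]) h (by decide +kernel) (by norm_num) (by norm_num) (by decide +kernel) hbad

theorem B_11_17 {S : Type u} [Group S] [Finite S] (h : Nat.card S = 2 ^ 41 * 3 ^ 13 * 5 ^ 6 * 7 ^ 2 * 11 * 13 * 17 * 19 * 23 * 31 * 47)
    (hbad : ∀ g : S, ∀ d ∈ ([13 * 31, 7 * 9 * 13, 7 * 9 * 19, 7 * 9 * 31, 7 * 13 * 19, 7 * 19 * 31, 9 * 13 * 19, 9 * 19 * 31] : List ℕ), ¬ d ∣ orderOf g) : ∀ g : S, Gen0 (orderOf g) 11 17 :=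
  gen0_group (fac := [(2, 41), (3, 13), (5, 6), (7, 2), (11, 1), (13, 1), (17, 1), (19, 1), (23, 1), (31, 1), (47, 1)]) h (by decide +kernel) (by norm_num) (by norm_num) (by decide +kernel) hbad

theorem B_11_19 {S : Type u} [Group S] [Finite S] (h : Nat.card S = 2 ^ 41 * 3 ^ 13 * 5 ^ 6 * 7 ^ 2 * 11 * 13 * 17 * 19 * 23 * 31 * 47)
    (hbad : ∀ g : S, ∀ d ∈ ([7 * 13, 7 * 31, 13 * 31, 25 * 31] : List ℕ), ¬ d ∣ orderOf g) : ∀ g : S, Gen0 (orderOf g) 11 19 :=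
  gen0_group (fac := [(2, 41), (3, 13), (5, 6), (7, 2), (11, 1), (13, 1), (17, 1), (19, 1), (23, 1), (31, 1), (47, 1)]) h (by decide +kernel) (by norm_num) (by norm_num) (by decide +kernel) hbad

theorem B_11_23 {S : Type u} [Group S] [Finite S] (h : Nat.card S = 2 ^ 41 * 3 ^ 13 * 5 ^ 6 * 7 ^ 2 * 11 * 13 * 17 * 19 * 23 * 31 * 47)
    (hbad : ∀ g : S, ∀ d ∈ ([7 * 9, 7 * 13 * 19, 7 * 13 * 31, 7 * 19 * 31, 9 * 13 * 19, 9 * 13 * 31, 9 * 19 * 31, 13 * 19 * 31] : List ℕ), ¬ d ∣ orderOf g) : ∀ g : S, Gen0 (orderOf g) 11 23 :=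
  gen0_group (fac := [(2, 41), (3, 13), (5, 6), (7, 2), (11, 1), (13, 1), (17, 1), (19, 1), (23, 1), (31, 1), (47, 1)]) h (by decide +kernel) (by norm_num) (by norm_num) (by decide +kernel) hbad

theorem B_11_31 {S : Type u} [Group S] [Finite S] (h : Nat.card S = 2 ^ 41 * 3 ^ 13 * 5 ^ 6 * 7 ^ 2 * 11 * 13 * 17 * 19 * 23 * 31 * 47)
    (hbad : ∀ g : S, ∀ d ∈ ([19, 7 * 9 * 13] : List ℕ), ¬ d ∣ orderOf g) : ∀ g : S, Gen0 (orderOf g) 11 31 :=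
  gen0_group (fac := [(2, 41), (3, 13), (5, 6), (7, 2), (11, 1), (13, 1), (17, 1), (19, 1), (23, 1), (31, 1), (47, 1)]) h (by decide +kernel) (by norm_num) (by norm_num) (by decide +kernel) hbad

theorem B_11_47 {S : Type u} [Group S] [Finite S] (h : Nat.card S = 2 ^ 41 * 3 ^ 13 * 5 ^ 6 * 7 ^ 2 * 11 * 13 * 17 * 19 * 23 * 31 * 47)
    (hbad : ∀ g : S, ∀ d ∈ ([13 * 31, 25 * 31, 7 * 9 * 13, 7 * 9 * 19, 7 * 9 * 31, 7 * 13 * 19, 7 * 19 * 31, 9 * 13 * 19, 9 * 19 * 31] : List ℕ), ¬ d ∣ orderOf g) : ∀ g : S, Gen0 (orderOf g) 11 47 :=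
  gen0_group (fac := [(2, 41), (3, 13), (5, 6), (7, 2), (11, 1), (13, 1), (17, 1), (19, 1), (23, 1), (31, 1), (47, 1)]) h (by decide +kernel) (by norm_num) (by norm_num) (by decide +kernel) hbad

theorem B_13_17 {S : Type u} [Group S] [Finite S] (h : Nat.card S = 2 ^ 41 * 3 ^ 13 * 5 ^ 6 * 7 ^ 2 * 11 * 13 * 17 * 19 * 23 * 31 * 47)
    (hbad : ∀ g : S, ∀ d ∈ ([19 * 31, 25 * 31, 7 * 9 * 19, 7 * 9 * 31] : List ℕ), ¬ d ∣ orderOf g) : ∀ g : S, Gen0 (orderOf g) 13 17 :=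
  gen0_group (fac := [(2, 41), (3, 13), (5, 6), (7, 2), (11, 1), (13, 1), (17, 1), (19, 1), (23, 1), (31, 1), (47, 1)]) h (by decide +kernel) (by norm_num) (by norm_num) (by decide +kernel) hbad

theorem B_13_19 {S : Type u} [Group S] [Finite S] (h : Nat.card S = 2 ^ 41 * 3 ^ 13 * 5 ^ 6 * 7 ^ 2 * 11 * 13 * 17 * 19 * 23 * 31 * 47)
    (hbad : ∀ g : S, ∀ d ∈ ([7 * 9 * 31, 11 * 25 * 31] : List ℕ), ¬ d ∣ orderOf g) : ∀ g : S, Gen0 (orderOf g) 13 19 :=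
  gen0_group (fac := [(2, 41), (3, 13), (5, 6), (7, 2), (11, 1), (13, 1), (17, 1), (19, 1), (23, 1), (31, 1), (47, 1)]) h (by decide +kernel) (by norm_num) (by norm_num) (by decide +kernel) hbad

theorem B_13_23 {S : Type u} [Group S] [Finite S] (h : Nat.card S = 2 ^ 41 * 3 ^ 13 * 5 ^ 6 * 7 ^ 2 * 11 * 13 * 17 * 19 * 23 * 31 * 47)
    (hbad : ∀ g : S, ∀ d ∈ ([9 * 19, 7 * 9 * 31, 7 * 19 * 31, 11 * 25 * 31] : List ℕ), ¬ d ∣ orderOf g) : ∀ g : S, Gen0 (orderOf g) 13 23 :=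
  gen0_group (fac := [(2, 41), (3, 13), (5, 6), (7, 2), (11, 1), (13, 1), (17, 1), (19, 1), (23, 1), (31, 1), (47, 1)]) h (by decide +kernel) (by norm_num) (by norm_num) (by decide +kernel) hbad

theorem B_13_31 {S : Type u} [Group S] [Finite S] (h : Nat.card S = 2 ^ 41 * 3 ^ 13 * 5 ^ 6 * 7 ^ 2 * 11 * 13 * 17 * 19 * 23 * 31 * 47)
    (hbad : ∀ g : S, ∀ d ∈ ([7 * 9 * 19] : List ℕ), ¬ d ∣ orderOf g) : ∀ g : S, Gen0 (orderOf g) 13 31 :=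
  gen0_group (fac := [(2, 41), (3, 13), (5, 6), (7, 2), (11, 1), (13, 1), (17, 1), (19, 1), (23, 1), (31, 1), (47, 1)]) h (by decide +kernel) (by norm_num) (by norm_num) (by decide +kernel) hbad

theorem B_13_47 {S : Type u} [Group S] [Finite S] (h : Nat.card S = 2 ^ 41 * 3 ^ 13 * 5 ^ 6 * 7 ^ 2 * 11 * 13 * 17 * 19 * 23 * 31 * 47)
    (hbad : ∀ g : S, ∀ d ∈ ([11 * 25, 7 * 9 * 19, 7 * 9 * 31, 7 * 19 * 31, 9 * 19 * 31] : List ℕ), ¬ d ∣ orderOf g) : ∀ g : S, Gen0 (orderOf g) 13 47 :=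
  gen0_group (fac := [(2, 41), (3, 13), (5, 6), (7, 2), (11, 1), (13, 1), (17, 1), (19, 1), (23, 1), (31, 1), (47, 1)]) h (by decide +kernel) (by norm_num) (by norm_num) (by decide +kernel) hbad

theorem B_17_19 {S : Type u} [Group S] [Finite S] (h : Nat.card S = 2 ^ 41 * 3 ^ 13 * 5 ^ 6 * 7 ^ 2 * 11 * 13 * 17 * 19 * 23 * 31 * 47)
    (hbad : ∀ g : S, ∀ d ∈ ([9, 11 * 31, 13 * 31] : List ℕ), ¬ d ∣ orderOf g) : ∀ g : S, Gen0 (orderOf g) 17 19 :=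
  gen0_group (fac := [(2, 41), (3, 13), (5, 6), (7, 2), (11, 1), (13, 1), (17, 1), (19, 1), (23, 1), (31, 1), (47, 1)]) h (by decide +kernel) (by norm_num) (by norm_num) (by decide +kernel) hbad

theorem B_17_23 {S : Type u} [Group S] [Finite S] (h : Nat.card S = 2 ^ 41 * 3 ^ 13 * 5 ^ 6 * 7 ^ 2 * 11 * 13 * 17 * 19 * 23 * 31 * 47)
    (hbad : ∀ g : S, ∀ d ∈ ([7 * 13, 7 * 19, 13 * 19, 7 * 9 * 31, 9 * 13 * 31, 9 * 19 * 31, 11 * 25 * 31] : List ℕ), ¬ d ∣ orderOf g) : ∀ g : S, Gen0 (orderOf g) 17 23 :=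
  gen0_group (fac := [(2, 41), (3, 13), (5, 6), (7, 2), (11, 1), (13, 1), (17, 1), (19, 1), (23, 1), (31, 1), (47, 1)]) h (by decide +kernel) (by norm_num) (by norm_num) (by decide +kernel) hbad

theorem B_17_31 {S : Type u} [Group S] [Finite S] (h : Nat.card S = 2 ^ 41 * 3 ^ 13 * 5 ^ 6 * 7 ^ 2 * 11 * 13 * 17 * 19 * 23 * 31 * 47)
    (hbad : ∀ g : S, ∀ d ∈ ([13 * 19, 7 * 9 * 13, 7 * 9 * 19] : List ℕ), ¬ d ∣ orderOf g) : ∀ g : S, Gen0 (orderOf g) 17 31 :=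
  gen0_group (fac := [(2, 41), (3, 13), (5, 6), (7, 2), (11, 1), (13, 1), (17, 1), (19, 1), (23, 1), (31, 1), (47, 1)]) h (by decide +kernel) (by norm_num) (by norm_num) (by decide +kernel) hbad

theorem B_17_47 {S : Type u} [Group S] [Finite S] (h : Nat.card S = 2 ^ 41 * 3 ^ 13 * 5 ^ 6 * 7 ^ 2 * 11 * 13 * 17 * 19 * 23 * 31 * 47)
    (hbad : ∀ g : S, ∀ d ∈ ([7 * 19, 13 * 31, 7 * 9 * 13, 7 * 9 * 31, 9 * 13 * 19, 9 * 19 * 31, 11 * 25 * 31] : List ℕ), ¬ d ∣ orderOf g) : ∀ g : S, Gen0 (orderOf g) 17 47 :=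
  gen0_group (fac := [(2, 41), (3, 13), (5, 6), (7, 2), (11, 1), (13, 1), (17, 1), (19, 1), (23, 1), (31, 1), (47, 1)]) h (by decide +kernel) (by norm_num) (by norm_num) (by decide +kernel) hbad

theorem B_19_23 {S : Type u} [Group S] [Finite S] (h : Nat.card S = 2 ^ 41 * 3 ^ 13 * 5 ^ 6 * 7 ^ 2 * 11 * 13 * 17 * 19 * 23 * 31 * 47)
    (hbad : ∀ g : S, ∀ d ∈ ([7 * 9 * 13, 7 * 9 * 31, 7 * 13 * 31, 9 * 13 * 31, 11 * 25 * 31] : List ℕ), ¬ d ∣ orderOf g) : ∀ g : S, Gen0 (orderOf g) 19 23 :=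
  gen0_group (fac := [(2, 41), (3, 13), (5, 6), (7, 2), (11, 1), (13, 1), (17, 1), (19, 1), (23, 1), (31, 1), (47, 1)]) h (by decide +kernel) (by norm_num) (by norm_num) (by decide +kernel) hbad

theorem B_19_31 {S : Type u} [Group S] [Finite S] (h : Nat.card S = 2 ^ 41 * 3 ^ 13 * 5 ^ 6 * 7 ^ 2 * 11 * 13 * 17 * 19 * 23 * 31 * 47)
    (hbad : ∀ g : S, ∀ d ∈ ([49, 7 * 9 * 13] : List ℕ), ¬ d ∣ orderOf g) : ∀ g : S, Gen0 (orderOf g) 19 31 :=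
  gen0_group (fac := [(2, 41), (3, 13), (5, 6), (7, 2), (11, 1), (13, 1), (17, 1), (19, 1), (23, 1), (31, 1), (47, 1)]) h (by decide +kernel) (by norm_num) (by norm_num) (by decide +kernel) hbad

theorem B_19_47 {S : Type u} [Group S] [Finite S] (h : Nat.card S = 2 ^ 41 * 3 ^ 13 * 5 ^ 6 * 7 ^ 2 * 11 * 13 * 17 * 19 * 23 * 31 * 47)
    (hbad : ∀ g : S, ∀ d ∈ ([13 * 31, 25 * 31, 7 * 9 * 13, 7 * 9 * 31] : List ℕ), ¬ d ∣ orderOf g) : ∀ g : S, Gen0 (orderOf g) 19 47 :=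
  gen0_group (fac := [(2, 41), (3, 13), (5, 6), (7, 2), (11, 1), (13, 1), (17, 1), (19, 1), (23, 1), (31, 1), (47, 1)]) h (by decide +kernel) (by norm_num) (by norm_num) (by decide +kernel) hbad

theorem B_23_31 {S : Type u} [Group S] [Finite S] (h : Nat.card S = 2 ^ 41 * 3 ^ 13 * 5 ^ 6 * 7 ^ 2 * 11 * 13 * 17 * 19 * 23 * 31 * 47)
    (hbad : ∀ g : S, ∀ d ∈ ([13 * 19, 7 * 9 * 13, 7 * 9 * 19] : List ℕ), ¬ d ∣ orderOf g) : ∀ g : S, Gen0 (orderOf g) 23 31 :=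
  gen0_group (fac := [(2, 41), (3, 13), (5, 6), (7, 2), (11, 1), (13, 1), (17, 1), (19, 1), (23, 1), (31, 1), (47, 1)]) h (by decide +kernel) (by norm_num) (by norm_num) (by decide +kernel) hbad

theorem B_23_47 {S : Type u} [Group S] [Finite S] (h : Nat.card S = 2 ^ 41 * 3 ^ 13 * 5 ^ 6 * 7 ^ 2 * 11 * 13 * 17 * 19 * 23 * 31 * 47)
    (hbad : ∀ g : S, ∀ d ∈ ([31, 7 * 19, 7 * 9 * 13, 9 * 13 * 19] : List ℕ), ¬ d ∣ orderOf g) : ∀ g : S, Gen0 (orderOf g) 23 47 :=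
  gen0_group (fac := [(2, 41), (3, 13), (5, 6), (7, 2), (11, 1), (13, 1), (17, 1), (19, 1), (23, 1), (31, 1), (47, 1)]) h (by decide +kernel) (by norm_num) (by norm_num) (by decide +kernel) hbad

theorem B_31_47 {S : Type u} [Group S] [Finite S] (h : Nat.card S = 2 ^ 41 * 3 ^ 13 * 5 ^ 6 * 7 ^ 2 * 11 * 13 * 17 * 19 * 23 * 31 * 47)
    (hbad : ∀ g : S, ∀ d ∈ ([13, 7 * 9] : List ℕ), ¬ d ∣ orderOf g) : ∀ g : S, Gen0 (orderOf g) 31 47 :=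
  gen0_group (fac := [(2, 41), (3, 13), (5, 6), (7, 2), (11, 1), (13, 1), (17, 1), (19, 1), (23, 1), (31, 1), (47, 1)]) h (by decide +kernel) (by norm_num) (by norm_num) (by decide +kernel) hbad

/-! ### Fi24 -/

theorem Fi24_11_13 {S : Type u} [Group S] [Finite S] (h : Nat.card S = 2 ^ 21 * 3 ^ 16 * 5 ^ 2 * 7 ^ 3 * 11 * 13 * 17 * 23 * 29)
    (hbad : ∀ g : S, ∀ d ∈ ([29 * 49] : List ℕ), ¬ d ∣ orderOf g) : ∀ g : S, Gen0 (orderOf g) 11 13 :=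
  gen0_group (fac := [(2, 21), (3, 16), (5, 2), (7, 3), (11, 1), (13, 1), (17, 1), (23, 1), (29, 1)]) h (by decide +kernel) (by norm_num) (by norm_num) (by decide +kernel) hbad

theorem Fi24_11_17 {S : Type u} [Group S] [Finite S] (h : Nat.card S = 2 ^ 21 * 3 ^ 16 * 5 ^ 2 * 7 ^ 3 * 11 * 13 * 17 * 23 * 29)
    (hbad : ∀ g : S, ∀ d ∈ ([7 * 9 * 13] : List ℕ), ¬ d ∣ orderOf g) : ∀ g : S, Gen0 (orderOf g) 11 17 :=
  gen0_group (fac := [(2, 21), (3, 16), (5, 2), (7, 3), (11, 1), (13, 1), (17, 1), (23, 1), (29, 1)]) h (by decide +kernel) (by norm_num) (by norm_num) (by decide +kernel) hbad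

theorem Fi24_11_23 {S : Type u} [Group S] [Finite S] (h : Nat.card S = 2 ^ 21 * 3 ^ 16 * 5 ^ 2 * 7 ^ 3 * 11 * 13 * 17 * 23 * 29)
    (hbad : ∀ g : S, ∀ d ∈ ([7 * 9] : List ℕ), ¬ d ∣ orderOf g) : ∀ g : S, Gen0 (orderOf g) 11 23 :=
  gen0_group (fac := [(2, 21), (3, 16), (5, 2), (7, 3), (11, 1), (13, 1), (17, 1), (23, 1), (29, 1)]) h (by decide +kernel) (by norm_num) (by norm_num) (by decide +kernel) hbad

theorem Fi24_11_29 {S : Type u} [Group S] [Finite S] (h : Nat.card S = 2 ^ 21 * 3 ^ 16 * 5 ^ 2 * 7 ^ 3 * 11 * 13 * 17 * 23 * 29)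
    (hbad : ∀ g : S, ∀ d ∈ ([9 * 13] : List ℕ), ¬ d ∣ orderOf g) : ∀ g : S, Gen0 (orderOf g) 11 29 :=
  gen0_group (fac := [(2, 21), (3, 16), (5, 2), (7, 3), (11, 1), (13, 1), (17, 1), (23, 1), (29, 1)]) h (by decide +kernel) (by norm_num) (by norm_num) (by decide +kernel) hbad

theorem Fi24_13_17 {S : Type u} [Group S] [Finite S] (h : Nat.card S = 2 ^ 21 * 3 ^ 16 * 5 ^ 2 * 7 ^ 3 * 11 * 13 * 17 * 23 * 29) :
    ∀ g : S, Gen0 (orderOf g) 13 17 :=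
  gen0_group (fac := [(2, 21), (3, 16), (5, 2), (7, 3), (11, 1), (13, 1), (17, 1), (23, 1), (29, 1)]) (bad := []) h (by decide +kernel) (by norm_num) (by norm_num) (by decide +kernel)
    fun _ d hd => absurd hd (List.not_mem_nil)

theorem Fi24_13_23 {S : Type u} [Group S] [Finite S] (h : Nat.card S = 2 ^ 21 * 3 ^ 16 * 5 ^ 2 * 7 ^ 3 * 11 * 13 * 17 * 23 * 29) :
    ∀ g : S, Gen0 (orderOf g) 13 23 :=
  gen0_group (fac := [(2, 21), (3, 16), (5, 2), (7, 3), (11, 1), (13, 1), (17, 1), (23, 1), (29, 1)]) (bad := []) h (by decide +kernel) (by norm_num) (by norm_num) (by decide +kernel)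
    fun _ d hd => absurd hd (List.not_mem_nil)

theorem Fi24_13_29 {S : Type u} [Group S] [Finite S] (h : Nat.card S = 2 ^ 21 * 3 ^ 16 * 5 ^ 2 * 7 ^ 3 * 11 * 13 * 17 * 23 * 29)
    (hbad : ∀ g : S, ∀ d ∈ ([7] : List ℕ), ¬ d ∣ orderOf g) : ∀ g : S, Gen0 (orderOf g) 13 29 :=
  gen0_group (fac := [(2, 21), (3, 16), (5, 2), (7, 3), (11, 1), (13, 1), (17, 1), (23, 1), (29, 1)]) h (by decide +kernel) (by norm_num) (by norm_num) (by decide +kernel) hbad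

theorem Fi24_17_23 {S : Type u} [Group S] [Finite S] (h : Nat.card S = 2 ^ 21 * 3 ^ 16 * 5 ^ 2 * 7 ^ 3 * 11 * 13 * 17 * 23 * 29)
    (hbad : ∀ g : S, ∀ d ∈ ([7 * 13] : List ℕ), ¬ d ∣ orderOf g) : ∀ g : S, Gen0 (orderOf g) 17 23 :=
  gen0_group (fac := [(2, 21), (3, 16), (5, 2), (7, 3), (11, 1), (13, 1), (17, 1), (23, 1), (29, 1)]) h (by decide +kernel) (by norm_num) (by norm_num) (by decide +kernel) hbad

theorem Fi24_17_29 {S : Type u} [Group S] [Finite S] (h : Nat.card S = 2 ^ 21 * 3 ^ 16 * 5 ^ 2 * 7 ^ 3 * 11 * 13 * 17 * 23 * 29)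
    (hbad : ∀ g : S, ∀ d ∈ ([7 * 9 * 13] : List ℕ), ¬ d ∣ orderOf g) : ∀ g : S, Gen0 (orderOf g) 17 29 :=
  gen0_group (fac := [(2, 21), (3, 16), (5, 2), (7, 3), (11, 1), (13, 1), (17, 1), (23, 1), (29, 1)]) h (by decide +kernel) (by norm_num) (by norm_num) (by decide +kernel) hbad

theorem Fi24_23_29 {S : Type u} [Group S] [Finite S] (h : Nat.card S = 2 ^ 21 * 3 ^ 16 * 5 ^ 2 * 7 ^ 3 * 11 * 13 * 17 * 23 * 29)
    (hbad : ∀ g : S, ∀ d ∈ ([7 * 9 * 13] : List ℕ), ¬ d ∣ orderOf g) : ∀ g : S, Gen0 (orderOf g) 23 29 :=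
  gen0_group (fac := [(2, 21), (3, 16), (5, 2), (7, 3), (11, 1), (13, 1), (17, 1), (23, 1), (29, 1)]) h (by decide +kernel) (by norm_num) (by norm_num) (by decide +kernel) hbad

/-! ### Fi23 -/

theorem Fi23_7_11 {S : Type u} [Group S] [Finite S] (h : Nat.card S = 2 ^ 18 * 3 ^ 13 * 5 ^ 2 * 7 * 11 * 13 * 17 * 23) :
    ∀ g : S, Gen0 (orderOf g) 7 11 :=
  gen0_group (fac := [(2, 18), (3, 13), (5, 2), (7, 1), (11, 1), (13, 1), (17, 1), (23, 1)]) (bad := []) h (by decide +kernel) (by norm_num) (by norm_num) (by decide +kernel)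
    fun _ d hd => absurd hd (List.not_mem_nil)

theorem Fi23_7_13 {S : Type u} [Group S] [Finite S] (h : Nat.card S = 2 ^ 18 * 3 ^ 13 * 5 ^ 2 * 7 * 11 * 13 * 17 * 23) :
    ∀ g : S, Gen0 (orderOf g) 7 13 :=
  gen0_group (fac := [(2, 18), (3, 13), (5, 2), (7, 1), (11, 1), (13, 1), (17, 1), (23, 1)]) (bad := []) h (by decide +kernel) (by norm_num) (by norm_num) (by decide +kernel)
    fun _ d hd => absurd hd (List.not_mem_nil)

theorem Fi23_7_17 {S : Type u} [Group S] [Finite S] (h : Nat.card S = 2 ^ 18 * 3 ^ 13 * 5 ^ 2 * 7 * 11 * 13 * 17 * 23) :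
    ∀ g : S, Gen0 (orderOf g) 7 17 :=
  gen0_group (fac := [(2, 18), (3, 13), (5, 2), (7, 1), (11, 1), (13, 1), (17, 1), (23, 1)]) (bad := []) h (by decide +kernel) (by norm_num) (by norm_num) (by decide +kernel)
    fun _ d hd => absurd hd (List.not_mem_nil)

theorem Fi23_7_23 {S : Type u} [Group S] [Finite S] (h : Nat.card S = 2 ^ 18 * 3 ^ 13 * 5 ^ 2 * 7 * 11 * 13 * 17 * 23)
    (hbad : ∀ g : S, ∀ d ∈ ([9 * 13] : List ℕ), ¬ d ∣ orderOf g) : ∀ g : S, Gen0 (orderOf g) 7 23 :=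
  gen0_group (fac := [(2, 18), (3, 13), (5, 2), (7, 1), (11, 1), (13, 1), (17, 1), (23, 1)]) h (by decide +kernel) (by norm_num) (by norm_num) (by decide +kernel) hbad

theorem Fi23_11_13 {S : Type u} [Group S] [Finite S] (h : Nat.card S = 2 ^ 18 * 3 ^ 13 * 5 ^ 2 * 7 * 11 * 13 * 17 * 23) :
    ∀ g : S, Gen0 (orderOf g) 11 13 :=
  gen0_group (fac := [(2, 18), (3, 13), (5, 2), (7, 1), (11, 1), (13, 1), (17, 1), (23, 1)]) (bad := []) h (by decide +kernel) (by norm_num) (by norm_num) (by decide +kernel)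
    fun _ d hd => absurd hd (List.not_mem_nil)

theorem Fi23_11_17 {S : Type u} [Group S] [Finite S] (h : Nat.card S = 2 ^ 18 * 3 ^ 13 * 5 ^ 2 * 7 * 11 * 13 * 17 * 23)
    (hbad : ∀ g : S, ∀ d ∈ ([7 * 9 * 13] : List ℕ), ¬ d ∣ orderOf g) : ∀ g : S, Gen0 (orderOf g) 11 17 :=
  gen0_group (fac := [(2, 18), (3, 13), (5, 2), (7, 1), (11, 1), (13, 1), (17, 1), (23, 1)]) h (by decide +kernel) (by norm_num) (by norm_num) (by decide +kernel) hbad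

theorem Fi23_11_23 {S : Type u} [Group S] [Finite S] (h : Nat.card S = 2 ^ 18 * 3 ^ 13 * 5 ^ 2 * 7 * 11 * 13 * 17 * 23)
    (hbad : ∀ g : S, ∀ d ∈ ([7 * 9] : List ℕ), ¬ d ∣ orderOf g) : ∀ g : S, Gen0 (orderOf g) 11 23 :=
  gen0_group (fac := [(2, 18), (3, 13), (5, 2), (7, 1), (11, 1), (13, 1), (17, 1), (23, 1)]) h (by decide +kernel) (by norm_num) (by norm_num) (by decide +kernel) hbad

theorem Fi23_13_17 {S : Type u} [Group S] [Finite S] (h : Nat.card S = 2 ^ 18 * 3 ^ 13 * 5 ^ 2 * 7 * 11 * 13 * 17 * 23) :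
    ∀ g : S, Gen0 (orderOf g) 13 17 :=
  gen0_group (fac := [(2, 18), (3, 13), (5, 2), (7, 1), (11, 1), (13, 1), (17, 1), (23, 1)]) (bad := []) h (by decide +kernel) (by norm_num) (by norm_num) (by decide +kernel)
    fun _ d hd => absurd hd (List.not_mem_nil)

theorem Fi23_13_23 {S : Type u} [Group S] [Finite S] (h : Nat.card S = 2 ^ 18 * 3 ^ 13 * 5 ^ 2 * 7 * 11 * 13 * 17 * 23) :
    ∀ g : S, Gen0 (orderOf g) 13 23 :=
  gen0_group (fac := [(2, 18), (3, 13), (5, 2), (7, 1), (11, 1), (13, 1), (17, 1), (23, 1)]) (bad := []) h (by decide +kernel) (by norm_num) (by norm_num) (by decide +kernel)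
    fun _ d hd => absurd hd (List.not_mem_nil)

theorem Fi23_17_23 {S : Type u} [Group S] [Finite S] (h : Nat.card S = 2 ^ 18 * 3 ^ 13 * 5 ^ 2 * 7 * 11 * 13 * 17 * 23)
    (hbad : ∀ g : S, ∀ d ∈ ([7 * 13] : List ℕ), ¬ d ∣ orderOf g) : ∀ g : S, Gen0 (orderOf g) 17 23 :=
  gen0_group (fac := [(2, 18), (3, 13), (5, 2), (7, 1), (11, 1), (13, 1), (17, 1), (23, 1)]) h (by decide +kernel) (by norm_num) (by norm_num) (by decide +kernel) hbad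

/-! ### Co1 -/

theorem Co1_11_13 {S : Type u} [Group S] [Finite S] (h : Nat.card S = 2 ^ 21 * 3 ^ 9 * 5 ^ 4 * 7 ^ 2 * 11 * 13 * 23) :
    ∀ g : S, Gen0 (orderOf g) 11 13 :=
  gen0_group (fac := [(2, 21), (3, 9), (5, 4), (7, 2), (11, 1), (13, 1), (23, 1)]) (bad := []) h (by decide +kernel) (by norm_num) (by norm_num) (by decide +kernel)
    fun _ d hd => absurd hd (List.not_mem_nil)

theorem Co1_11_23 {S : Type u} [Group S] [Finite S] (h : Nat.card S = 2 ^ 21 * 3 ^ 9 * 5 ^ 4 * 7 ^ 2 * 11 * 13 * 23)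
    (hbad : ∀ g : S, ∀ d ∈ ([7 * 9] : List ℕ), ¬ d ∣ orderOf g) : ∀ g : S, Gen0 (orderOf g) 11 23 :=
  gen0_group (fac := [(2, 21), (3, 9), (5, 4), (7, 2), (11, 1), (13, 1), (23, 1)]) h (by decide +kernel) (by norm_num) (by norm_num) (by decide +kernel) hbad

theorem Co1_13_23 {S : Type u} [Group S] [Finite S] (h : Nat.card S = 2 ^ 21 * 3 ^ 9 * 5 ^ 4 * 7 ^ 2 * 11 * 13 * 23) :
    ∀ g : S, Gen0 (orderOf g) 13 23 :=
  gen0_group (fac := [(2, 21), (3, 9), (5, 4), (7, 2), (11, 1), (13, 1), (23, 1)]) (bad := []) h (by decide +kernel) (by norm_num) (by norm_num) (by decide +kernel)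
    fun _ d hd => absurd hd (List.not_mem_nil)

/-! ### J4 -/

theorem J4_5_7 {S : Type u} [Group S] [Finite S] (h : Nat.card S = 2 ^ 21 * 3 ^ 3 * 5 * 7 * 11 ^ 3 * 23 * 29 * 31 * 37 * 43)
    (hbad : ∀ g : S, ∀ d ∈ ([9 * 31, 9 * 43, 31 * 43] : List ℕ), ¬ d ∣ orderOf g) : ∀ g : S, Gen0 (orderOf g) 5 7 :=
  gen0_group (fac := [(2, 21), (3, 3), (5, 1), (7, 1), (11, 3), (23, 1), (29, 1), (31, 1), (37, 1), (43, 1)]) h (by decide +kernel) (by norm_num) (by norm_num) (by decide +kernel) hbad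

theorem J4_5_23 {S : Type u} [Group S] [Finite S] (h : Nat.card S = 2 ^ 21 * 3 ^ 3 * 5 * 7 * 11 ^ 3 * 23 * 29 * 31 * 37 * 43)
    (hbad : ∀ g : S, ∀ d ∈ ([7 * 9, 7 * 43, 9 * 43, 31 * 37] : List ℕ), ¬ d ∣ orderOf g) : ∀ g : S, Gen0 (orderOf g) 5 23 :=
  gen0_group (fac := [(2, 21), (3, 3), (5, 1), (7, 1), (11, 3), (23, 1), (29, 1), (31, 1), (37, 1), (43, 1)]) h (by decide +kernel) (by norm_num) (by norm_num) (by decide +kernel) hbad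

theorem J4_5_29 {S : Type u} [Group S] [Finite S] (h : Nat.card S = 2 ^ 21 * 3 ^ 3 * 5 * 7 * 11 ^ 3 * 23 * 29 * 31 * 37 * 43)
    (hbad : ∀ g : S, ∀ d ∈ ([7 * 31, 7 * 37, 9 * 43, 31 * 37] : List ℕ), ¬ d ∣ orderOf g) : ∀ g : S, Gen0 (orderOf g) 5 29 :=
  gen0_group (fac := [(2, 21), (3, 3), (5, 1), (7, 1), (11, 3), (23, 1), (29, 1), (31, 1), (37, 1), (43, 1)]) h (by decide +kernel) (by norm_num) (by norm_num) (by decide +kernel) hbad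

theorem J4_5_31 {S : Type u} [Group S] [Finite S] (h : Nat.card S = 2 ^ 21 * 3 ^ 3 * 5 * 7 * 11 ^ 3 * 23 * 29 * 31 * 37 * 43)
    (hbad : ∀ g : S, ∀ d ∈ ([9 * 43, 7 * 9 * 37, 7 * 37 * 43] : List ℕ), ¬ d ∣ orderOf g) : ∀ g : S, Gen0 (orderOf g) 5 31 :=
  gen0_group (fac := [(2, 21), (3, 3), (5, 1), (7, 1), (11, 3), (23, 1), (29, 1), (31, 1), (37, 1), (43, 1)]) h (by decide +kernel) (by norm_num) (by norm_num) (by decide +kernel) hbad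

theorem J4_5_37 {S : Type u} [Group S] [Finite S] (h : Nat.card S = 2 ^ 21 * 3 ^ 3 * 5 * 7 * 11 ^ 3 * 23 * 29 * 31 * 37 * 43)
    (hbad : ∀ g : S, ∀ d ∈ ([31, 7 * 43] : List ℕ), ¬ d ∣ orderOf g) : ∀ g : S, Gen0 (orderOf g) 5 37 :=
  gen0_group (fac := [(2, 21), (3, 3), (5, 1), (7, 1), (11, 3), (23, 1), (29, 1), (31, 1), (37, 1), (43, 1)]) h (by decide +kernel) (by norm_num) (by norm_num) (by decide +kernel) hbad

theorem J4_5_43 {S : Type u} [Group S] [Finite S] (h : Nat.card S = 2 ^ 21 * 3 ^ 3 * 5 * 7 * 11 ^ 3 * 23 * 29 * 31 * 37 * 43)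
    (hbad : ∀ g : S, ∀ d ∈ ([7 * 37, 9 * 31] : List ℕ), ¬ d ∣ orderOf g) : ∀ g : S, Gen0 (orderOf g) 5 43 :=
  gen0_group (fac := [(2, 21), (3, 3), (5, 1), (7, 1), (11, 3), (23, 1), (29, 1), (31, 1), (37, 1), (43, 1)]) h (by decide +kernel) (by norm_num) (by norm_num) (by decide +kernel) hbad

theorem J4_7_23 {S : Type u} [Group S] [Finite S] (h : Nat.card S = 2 ^ 21 * 3 ^ 3 * 5 * 7 * 11 ^ 3 * 23 * 29 * 31 * 37 * 43)
    (hbad : ∀ g : S, ∀ d ∈ ([9 * 43, 31 * 37] : List ℕ), ¬ d ∣ orderOf g) : ∀ g : S, Gen0 (orderOf g) 7 23 :=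
  gen0_group (fac := [(2, 21), (3, 3), (5, 1), (7, 1), (11, 3), (23, 1), (29, 1), (31, 1), (37, 1), (43, 1)]) h (by decide +kernel) (by norm_num) (by norm_num) (by decide +kernel) hbad

theorem J4_7_29 {S : Type u} [Group S] [Finite S] (h : Nat.card S = 2 ^ 21 * 3 ^ 3 * 5 * 7 * 11 ^ 3 * 23 * 29 * 31 * 37 * 43)
    (hbad : ∀ g : S, ∀ d ∈ ([9 * 43, 31 * 37] : List ℕ), ¬ d ∣ orderOf g) : ∀ g : S, Gen0 (orderOf g) 7 29 :=
  gen0_group (fac := [(2, 21), (3, 3), (5, 1), (7, 1), (11, 3), (23, 1), (29, 1), (31, 1), (37, 1), (43, 1)]) h (by decide +kernel) (by norm_num) (by norm_num) (by decide +kernel) hbad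

theorem J4_7_31 {S : Type u} [Group S] [Finite S] (h : Nat.card S = 2 ^ 21 * 3 ^ 3 * 5 * 7 * 11 ^ 3 * 23 * 29 * 31 * 37 * 43)
    (hbad : ∀ g : S, ∀ d ∈ ([9 * 43] : List ℕ), ¬ d ∣ orderOf g) : ∀ g : S, Gen0 (orderOf g) 7 31 :=
  gen0_group (fac := [(2, 21), (3, 3), (5, 1), (7, 1), (11, 3), (23, 1), (29, 1), (31, 1), (37, 1), (43, 1)]) h (by decide +kernel) (by norm_num) (by norm_num) (by decide +kernel) hbad

theorem J4_7_37 {S : Type u} [Group S] [Finite S] (h : Nat.card S = 2 ^ 21 * 3 ^ 3 * 5 * 7 * 11 ^ 3 * 23 * 29 * 31 * 37 * 43)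
    (hbad : ∀ g : S, ∀ d ∈ ([43] : List ℕ), ¬ d ∣ orderOf g) : ∀ g : S, Gen0 (orderOf g) 7 37 :=
  gen0_group (fac := [(2, 21), (3, 3), (5, 1), (7, 1), (11, 3), (23, 1), (29, 1), (31, 1), (37, 1), (43, 1)]) h (by decide +kernel) (by norm_num) (by norm_num) (by decide +kernel) hbad

theorem J4_7_43 {S : Type u} [Group S] [Finite S] (h : Nat.card S = 2 ^ 21 * 3 ^ 3 * 5 * 7 * 11 ^ 3 * 23 * 29 * 31 * 37 * 43)
    (hbad : ∀ g : S, ∀ d ∈ ([9 * 31, 23 * 121] : List ℕ), ¬ d ∣ orderOf g) : ∀ g : S, Gen0 (orderOf g) 7 43 :=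
  gen0_group (fac := [(2, 21), (3, 3), (5, 1), (7, 1), (11, 3), (23, 1), (29, 1), (31, 1), (37, 1), (43, 1)]) h (by decide +kernel) (by norm_num) (by norm_num) (by decide +kernel) hbad

theorem J4_23_29 {S : Type u} [Group S] [Finite S] (h : Nat.card S = 2 ^ 21 * 3 ^ 3 * 5 * 7 * 11 ^ 3 * 23 * 29 * 31 * 37 * 43)
    (hbad : ∀ g : S, ∀ d ∈ ([31, 37, 9 * 43] : List ℕ), ¬ d ∣ orderOf g) : ∀ g : S, Gen0 (orderOf g) 23 29 :=
  gen0_group (fac := [(2, 21), (3, 3), (5, 1), (7, 1), (11, 3), (23, 1), (29, 1), (31, 1), (37, 1), (43, 1)]) h (by decide +kernel) (by norm_num) (by norm_num) (by decide +kernel) hbad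

theorem J4_23_31 {S : Type u} [Group S] [Finite S] (h : Nat.card S = 2 ^ 21 * 3 ^ 3 * 5 * 7 * 11 ^ 3 * 23 * 29 * 31 * 37 * 43)
    (hbad : ∀ g : S, ∀ d ∈ ([37, 9 * 43] : List ℕ), ¬ d ∣ orderOf g) : ∀ g : S, Gen0 (orderOf g) 23 31 :=
  gen0_group (fac := [(2, 21), (3, 3), (5, 1), (7, 1), (11, 3), (23, 1), (29, 1), (31, 1), (37, 1), (43, 1)]) h (by decide +kernel) (by norm_num) (by norm_num) (by decide +kernel) hbad

theorem J4_23_37 {S : Type u} [Group S] [Finite S] (h : Nat.card S = 2 ^ 21 * 3 ^ 3 * 5 * 7 * 11 ^ 3 * 23 * 29 * 31 * 37 * 43)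
    (hbad : ∀ g : S, ∀ d ∈ ([7 * 43, 7 * 9 * 31, 9 * 31 * 43] : List ℕ), ¬ d ∣ orderOf g) : ∀ g : S, Gen0 (orderOf g) 23 37 :=
  gen0_group (fac := [(2, 21), (3, 3), (5, 1), (7, 1), (11, 3), (23, 1), (29, 1), (31, 1), (37, 1), (43, 1)]) h (by decide +kernel) (by norm_num) (by norm_num) (by decide +kernel) hbad

theorem J4_23_43 {S : Type u} [Group S] [Finite S] (h : Nat.card S = 2 ^ 21 * 3 ^ 3 * 5 * 7 * 11 ^ 3 * 23 * 29 * 31 * 37 * 43)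
    (hbad : ∀ g : S, ∀ d ∈ ([11, 37, 7 * 9 * 31] : List ℕ), ¬ d ∣ orderOf g) : ∀ g : S, Gen0 (orderOf g) 23 43 :=
  gen0_group (fac := [(2, 21), (3, 3), (5, 1), (7, 1), (11, 3), (23, 1), (29, 1), (31, 1), (37, 1), (43, 1)]) h (by decide +kernel) (by norm_num) (by norm_num) (by decide +kernel) hbad

theorem J4_29_31 {S : Type u} [Group S] [Finite S] (h : Nat.card S = 2 ^ 21 * 3 ^ 3 * 5 * 7 * 11 ^ 3 * 23 * 29 * 31 * 37 * 43)
    (hbad : ∀ g : S, ∀ d ∈ ([37, 9 * 43] : List ℕ), ¬ d ∣ orderOf g) : ∀ g : S, Gen0 (orderOf g) 29 31 :=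
  gen0_group (fac := [(2, 21), (3, 3), (5, 1), (7, 1), (11, 3), (23, 1), (29, 1), (31, 1), (37, 1), (43, 1)]) h (by decide +kernel) (by norm_num) (by norm_num) (by decide +kernel) hbad

theorem J4_29_37 {S : Type u} [Group S] [Finite S] (h : Nat.card S = 2 ^ 21 * 3 ^ 3 * 5 * 7 * 11 ^ 3 * 23 * 29 * 31 * 37 * 43)
    (hbad : ∀ g : S, ∀ d ∈ ([7 * 31, 7 * 9 * 43, 9 * 31 * 43] : List ℕ), ¬ d ∣ orderOf g) : ∀ g : S, Gen0 (orderOf g) 29 37 :=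
  gen0_group (fac := [(2, 21), (3, 3), (5, 1), (7, 1), (11, 3), (23, 1), (29, 1), (31, 1), (37, 1), (43, 1)]) h (by decide +kernel) (by norm_num) (by norm_num) (by decide +kernel) hbad

theorem J4_29_43 {S : Type u} [Group S] [Finite S] (h : Nat.card S = 2 ^ 21 * 3 ^ 3 * 5 * 7 * 11 ^ 3 * 23 * 29 * 31 * 37 * 43)
    (hbad : ∀ g : S, ∀ d ∈ ([7, 37] : List ℕ), ¬ d ∣ orderOf g) : ∀ g : S, Gen0 (orderOf g) 29 43 :=
  gen0_group (fac := [(2, 21), (3, 3), (5, 1), (7, 1), (11, 3), (23, 1), (29, 1), (31, 1), (37, 1), (43, 1)]) h (by decide +kernel) (by norm_num) (by norm_num) (by decide +kernel) hbad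

theorem J4_31_37 {S : Type u} [Group S] [Finite S] (h : Nat.card S = 2 ^ 21 * 3 ^ 3 * 5 * 7 * 11 ^ 3 * 23 * 29 * 31 * 37 * 43)
    (hbad : ∀ g : S, ∀ d ∈ ([7 * 9 * 43] : List ℕ), ¬ d ∣ orderOf g) : ∀ g : S, Gen0 (orderOf g) 31 37 :=
  gen0_group (fac := [(2, 21), (3, 3), (5, 1), (7, 1), (11, 3), (23, 1), (29, 1), (31, 1), (37, 1), (43, 1)]) h (by decide +kernel) (by norm_num) (by norm_num) (by decide +kernel) hbad

theorem J4_31_43 {S : Type u} [Group S] [Finite S] (h : Nat.card S = 2 ^ 21 * 3 ^ 3 * 5 * 7 * 11 ^ 3 * 23 * 29 * 31 * 37 * 43)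
    (hbad : ∀ g : S, ∀ d ∈ ([37] : List ℕ), ¬ d ∣ orderOf g) : ∀ g : S, Gen0 (orderOf g) 31 43 :=
  gen0_group (fac := [(2, 21), (3, 3), (5, 1), (7, 1), (11, 3), (23, 1), (29, 1), (31, 1), (37, 1), (43, 1)]) h (by decide +kernel) (by norm_num) (by norm_num) (by decide +kernel) hbad

theorem J4_37_43 {S : Type u} [Group S] [Finite S] (h : Nat.card S = 2 ^ 21 * 3 ^ 3 * 5 * 7 * 11 ^ 3 * 23 * 29 * 31 * 37 * 43)
    (hbad : ∀ g : S, ∀ d ∈ ([7 * 9 * 31] : List ℕ), ¬ d ∣ orderOf g) : ∀ g : S, Gen0 (orderOf g) 37 43 :=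
  gen0_group (fac := [(2, 21), (3, 3), (5, 1), (7, 1), (11, 3), (23, 1), (29, 1), (31, 1), (37, 1), (43, 1)]) h (by decide +kernel) (by norm_num) (by norm_num) (by decide +kernel) hbad

/-! ### Th -/

theorem Th_13_19 {S : Type u} [Group S] [Finite S] (h : Nat.card S = 2 ^ 15 * 3 ^ 10 * 5 ^ 3 * 7 ^ 2 * 13 * 19 * 31)
    (hbad : ∀ g : S, ∀ d ∈ ([7 * 9 * 31] : List ℕ), ¬ d ∣ orderOf g) : ∀ g : S, Gen0 (orderOf g) 13 19 :=
  gen0_group (fac := [(2, 15), (3, 10), (5, 3), (7, 2), (13, 1), (19, 1), (31, 1)]) h (by decide +kernel) (by norm_num) (by norm_num) (by decide +kernel) hbad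

theorem Th_13_31 {S : Type u} [Group S] [Finite S] (h : Nat.card S = 2 ^ 15 * 3 ^ 10 * 5 ^ 3 * 7 ^ 2 * 13 * 19 * 31)
    (hbad : ∀ g : S, ∀ d ∈ ([7 * 9 * 19] : List ℕ), ¬ d ∣ orderOf g) : ∀ g : S, Gen0 (orderOf g) 13 31 :=
  gen0_group (fac := [(2, 15), (3, 10), (5, 3), (7, 2), (13, 1), (19, 1), (31, 1)]) h (by decide +kernel) (by norm_num) (by norm_num) (by decide +kernel) hbad

theorem Th_19_31 {S : Type u} [Group S] [Finite S] (h : Nat.card S = 2 ^ 15 * 3 ^ 10 * 5 ^ 3 * 7 ^ 2 * 13 * 19 * 31)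
    (hbad : ∀ g : S, ∀ d ∈ ([49, 7 * 9 * 13] : List ℕ), ¬ d ∣ orderOf g) : ∀ g : S, Gen0 (orderOf g) 19 31 :=
  gen0_group (fac := [(2, 15), (3, 10), (5, 3), (7, 2), (13, 1), (19, 1), (31, 1)]) h (by decide +kernel) (by norm_num) (by norm_num) (by decide +kernel) hbad

/-! ### Ly -/

theorem Ly_7_11 {S : Type u} [Group S] [Finite S] (h : Nat.card S = 2 ^ 8 * 3 ^ 7 * 5 ^ 6 * 7 * 11 * 31 * 37 * 67)
    (hbad : ∀ g : S, ∀ d ∈ ([9 * 67, 9 * 31 * 37, 31 * 37 * 67] : List ℕ), ¬ d ∣ orderOf g) : ∀ g : S, Gen0 (orderOf g) 7 11 :=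
  gen0_group (fac := [(2, 8), (3, 7), (5, 6), (7, 1), (11, 1), (31, 1), (37, 1), (67, 1)]) h (by decide +kernel) (by norm_num) (by norm_num) (by decide +kernel) hbad

theorem Ly_7_31 {S : Type u} [Group S] [Finite S] (h : Nat.card S = 2 ^ 8 * 3 ^ 7 * 5 ^ 6 * 7 * 11 * 31 * 37 * 67)
    (hbad : ∀ g : S, ∀ d ∈ ([9 * 37 * 67] : List ℕ), ¬ d ∣ orderOf g) : ∀ g : S, Gen0 (orderOf g) 7 31 :=
  gen0_group (fac := [(2, 8), (3, 7), (5, 6), (7, 1), (11, 1), (31, 1), (37, 1), (67, 1)]) h (by decide +kernel) (by norm_num) (by norm_num) (by decide +kernel) hbad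

theorem Ly_7_37 {S : Type u} [Group S] [Finite S] (h : Nat.card S = 2 ^ 8 * 3 ^ 7 * 5 ^ 6 * 7 * 11 * 31 * 37 * 67)
    (hbad : ∀ g : S, ∀ d ∈ ([9 * 31 * 67, 11 * 25 * 31] : List ℕ), ¬ d ∣ orderOf g) : ∀ g : S, Gen0 (orderOf g) 7 37 :=
  gen0_group (fac := [(2, 8), (3, 7), (5, 6), (7, 1), (11, 1), (31, 1), (37, 1), (67, 1)]) h (by decide +kernel) (by norm_num) (by norm_num) (by decide +kernel) hbad

theorem Ly_7_67 {S : Type u} [Group S] [Finite S] (h : Nat.card S = 2 ^ 8 * 3 ^ 7 * 5 ^ 6 * 7 * 11 * 31 * 37 * 67)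
    (hbad : ∀ g : S, ∀ d ∈ ([9 * 31, 11 * 31] : List ℕ), ¬ d ∣ orderOf g) : ∀ g : S, Gen0 (orderOf g) 7 67 :=
  gen0_group (fac := [(2, 8), (3, 7), (5, 6), (7, 1), (11, 1), (31, 1), (37, 1), (67, 1)]) h (by decide +kernel) (by norm_num) (by norm_num) (by decide +kernel) hbad

theorem Ly_11_31 {S : Type u} [Group S] [Finite S] (h : Nat.card S = 2 ^ 8 * 3 ^ 7 * 5 ^ 6 * 7 * 11 * 31 * 37 * 67)
    (hbad : ∀ g : S, ∀ d ∈ ([37, 7 * 67] : List ℕ), ¬ d ∣ orderOf g) : ∀ g : S, Gen0 (orderOf g) 11 31 :=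
  gen0_group (fac := [(2, 8), (3, 7), (5, 6), (7, 1), (11, 1), (31, 1), (37, 1), (67, 1)]) h (by decide +kernel) (by norm_num) (by norm_num) (by decide +kernel) hbad

theorem Ly_11_37 {S : Type u} [Group S] [Finite S] (h : Nat.card S = 2 ^ 8 * 3 ^ 7 * 5 ^ 6 * 7 * 11 * 31 * 37 * 67)
    (hbad : ∀ g : S, ∀ d ∈ ([7 * 31, 7 * 67, 31 * 67] : List ℕ), ¬ d ∣ orderOf g) : ∀ g : S, Gen0 (orderOf g) 11 37 :=
  gen0_group (fac := [(2, 8), (3, 7), (5, 6), (7, 1), (11, 1), (31, 1), (37, 1), (67, 1)]) h (by decide +kernel) (by norm_num) (by norm_num) (by decide +kernel) hbad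

theorem Ly_11_67 {S : Type u} [Group S] [Finite S] (h : Nat.card S = 2 ^ 8 * 3 ^ 7 * 5 ^ 6 * 7 * 11 * 31 * 37 * 67)
    (hbad : ∀ g : S, ∀ d ∈ ([7 * 31, 7 * 9 * 37, 9 * 31 * 37] : List ℕ), ¬ d ∣ orderOf g) : ∀ g : S, Gen0 (orderOf g) 11 67 :=
  gen0_group (fac := [(2, 8), (3, 7), (5, 6), (7, 1), (11, 1), (31, 1), (37, 1), (67, 1)]) h (by decide +kernel) (by norm_num) (by norm_num) (by decide +kernel) hbad

theorem Ly_31_37 {S : Type u} [Group S] [Finite S] (h : Nat.card S = 2 ^ 8 * 3 ^ 7 * 5 ^ 6 * 7 * 11 * 31 * 37 * 67)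
    (hbad : ∀ g : S, ∀ d ∈ ([7 * 67] : List ℕ), ¬ d ∣ orderOf g) : ∀ g : S, Gen0 (orderOf g) 31 37 :=
  gen0_group (fac := [(2, 8), (3, 7), (5, 6), (7, 1), (11, 1), (31, 1), (37, 1), (67, 1)]) h (by decide +kernel) (by norm_num) (by norm_num) (by decide +kernel) hbad

theorem Ly_31_67 {S : Type u} [Group S] [Finite S] (h : Nat.card S = 2 ^ 8 * 3 ^ 7 * 5 ^ 6 * 7 * 11 * 31 * 37 * 67)
    (hbad : ∀ g : S, ∀ d ∈ ([7 * 9] : List ℕ), ¬ d ∣ orderOf g) : ∀ g : S, Gen0 (orderOf g) 31 67 :=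
  gen0_group (fac := [(2, 8), (3, 7), (5, 6), (7, 1), (11, 1), (31, 1), (37, 1), (67, 1)]) h (by decide +kernel) (by norm_num) (by norm_num) (by decide +kernel) hbad

theorem Ly_37_67 {S : Type u} [Group S] [Finite S] (h : Nat.card S = 2 ^ 8 * 3 ^ 7 * 5 ^ 6 * 7 * 11 * 31 * 37 * 67)
    (hbad : ∀ g : S, ∀ d ∈ ([31] : List ℕ), ¬ d ∣ orderOf g) : ∀ g : S, Gen0 (orderOf g) 37 67 :=
  gen0_group (fac := [(2, 8), (3, 7), (5, 6), (7, 1), (11, 1), (31, 1), (37, 1), (67, 1)]) h (by decide +kernel) (by norm_num) (by norm_num) (by decide +kernel) hbad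

/-! ### HN -/

theorem HN_7_11 {S : Type u} [Group S] [Finite S] (h : Nat.card S = 2 ^ 14 * 3 ^ 6 * 5 ^ 6 * 7 * 11 * 19)
    (hbad : ∀ g : S, ∀ d ∈ ([19] : List ℕ), ¬ d ∣ orderOf g) : ∀ g : S, Gen0 (orderOf g) 7 11 :=
  gen0_group (fac := [(2, 14), (3, 6), (5, 6), (7, 1), (11, 1), (19, 1)]) h (by decide +kernel) (by norm_num) (by norm_num) (by decide +kernel) hbad

theorem HN_7_19 {S : Type u} [Group S] [Finite S] (h : Nat.card S = 2 ^ 14 * 3 ^ 6 * 5 ^ 6 * 7 * 11 * 19) :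
    ∀ g : S, Gen0 (orderOf g) 7 19 :=
  gen0_group (fac := [(2, 14), (3, 6), (5, 6), (7, 1), (11, 1), (19, 1)]) (bad := []) h (by decide +kernel) (by norm_num) (by norm_num) (by decide +kernel)
    fun _ d hd => absurd hd (List.not_mem_nil)

theorem HN_11_19 {S : Type u} [Group S] [Finite S] (h : Nat.card S = 2 ^ 14 * 3 ^ 6 * 5 ^ 6 * 7 * 11 * 19) :
    ∀ g : S, Gen0 (orderOf g) 11 19 :=
  gen0_group (fac := [(2, 14), (3, 6), (5, 6), (7, 1), (11, 1), (19, 1)]) (bad := []) h (by decide +kernel) (by norm_num) (by norm_num) (by decide +kernel)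
    fun _ d hd => absurd hd (List.not_mem_nil)

/-! ### ON -/

theorem ON_5_11 {S : Type u} [Group S] [Finite S] (h : Nat.card S = 2 ^ 9 * 3 ^ 4 * 5 * 7 ^ 3 * 11 * 19 * 31)
    (hbad : ∀ g : S, ∀ d ∈ ([7 * 9, 7 * 19 * 31, 9 * 19 * 31] : List ℕ), ¬ d ∣ orderOf g) : ∀ g : S, Gen0 (orderOf g) 5 11 :=
  gen0_group (fac := [(2, 9), (3, 4), (5, 1), (7, 3), (11, 1), (19, 1), (31, 1)]) h (by decide +kernel) (by norm_num) (by norm_num) (by decide +kernel) hbad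

theorem ON_5_19 {S : Type u} [Group S] [Finite S] (h : Nat.card S = 2 ^ 9 * 3 ^ 4 * 5 * 7 ^ 3 * 11 * 19 * 31)
    (hbad : ∀ g : S, ∀ d ∈ ([7 * 9 * 31] : List ℕ), ¬ d ∣ orderOf g) : ∀ g : S, Gen0 (orderOf g) 5 19 :=
  gen0_group (fac := [(2, 9), (3, 4), (5, 1), (7, 3), (11, 1), (19, 1), (31, 1)]) h (by decide +kernel) (by norm_num) (by norm_num) (by decide +kernel) hbad

theorem ON_5_31 {S : Type u} [Group S] [Finite S] (h : Nat.card S = 2 ^ 9 * 3 ^ 4 * 5 * 7 ^ 3 * 11 * 19 * 31)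
    (hbad : ∀ g : S, ∀ d ∈ ([7 * 9 * 19] : List ℕ), ¬ d ∣ orderOf g) : ∀ g : S, Gen0 (orderOf g) 5 31 :=
  gen0_group (fac := [(2, 9), (3, 4), (5, 1), (7, 3), (11, 1), (19, 1), (31, 1)]) h (by decide +kernel) (by norm_num) (by norm_num) (by decide +kernel) hbad

theorem ON_11_19 {S : Type u} [Group S] [Finite S] (h : Nat.card S = 2 ^ 9 * 3 ^ 4 * 5 * 7 ^ 3 * 11 * 19 * 31)
    (hbad : ∀ g : S, ∀ d ∈ ([7 * 31] : List ℕ), ¬ d ∣ orderOf g) : ∀ g : S, Gen0 (orderOf g) 11 19 :=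
  gen0_group (fac := [(2, 9), (3, 4), (5, 1), (7, 3), (11, 1), (19, 1), (31, 1)]) h (by decide +kernel) (by norm_num) (by norm_num) (by decide +kernel) hbad

theorem ON_11_31 {S : Type u} [Group S] [Finite S] (h : Nat.card S = 2 ^ 9 * 3 ^ 4 * 5 * 7 ^ 3 * 11 * 19 * 31)
    (hbad : ∀ g : S, ∀ d ∈ ([19] : List ℕ), ¬ d ∣ orderOf g) : ∀ g : S, Gen0 (orderOf g) 11 31 :=
  gen0_group (fac := [(2, 9), (3, 4), (5, 1), (7, 3), (11, 1), (19, 1), (31, 1)]) h (by decide +kernel) (by norm_num) (by norm_num) (by decide +kernel) hbad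

theorem ON_19_31 {S : Type u} [Group S] [Finite S] (h : Nat.card S = 2 ^ 9 * 3 ^ 4 * 5 * 7 ^ 3 * 11 * 19 * 31)
    (hbad : ∀ g : S, ∀ d ∈ ([49] : List ℕ), ¬ d ∣ orderOf g) : ∀ g : S, Gen0 (orderOf g) 19 31 :=
  gen0_group (fac := [(2, 9), (3, 4), (5, 1), (7, 3), (11, 1), (19, 1), (31, 1)]) h (by decide +kernel) (by norm_num) (by norm_num) (by decide +kernel) hbad

/-! ### Suz -/

theorem Suz_7_11 {S : Type u} [Group S] [Finite S] (h : Nat.card S = 2 ^ 13 * 3 ^ 7 * 5 ^ 2 * 7 * 11 * 13) :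
    ∀ g : S, Gen0 (orderOf g) 7 11 :=
  gen0_group (fac := [(2, 13), (3, 7), (5, 2), (7, 1), (11, 1), (13, 1)]) (bad := []) h (by decide +kernel) (by norm_num) (by norm_num) (by decide +kernel)
    fun _ d hd => absurd hd (List.not_mem_nil)

theorem Suz_7_13 {S : Type u} [Group S] [Finite S] (h : Nat.card S = 2 ^ 13 * 3 ^ 7 * 5 ^ 2 * 7 * 11 * 13) :
    ∀ g : S, Gen0 (orderOf g) 7 13 :=
  gen0_group (fac := [(2, 13), (3, 7), (5, 2), (7, 1), (11, 1), (13, 1)]) (bad := []) h (by decide +kernel) (by norm_num) (by norm_num) (by decide +kernel)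
    fun _ d hd => absurd hd (List.not_mem_nil)

theorem Suz_11_13 {S : Type u} [Group S] [Finite S] (h : Nat.card S = 2 ^ 13 * 3 ^ 7 * 5 ^ 2 * 7 * 11 * 13) :
    ∀ g : S, Gen0 (orderOf g) 11 13 :=
  gen0_group (fac := [(2, 13), (3, 7), (5, 2), (7, 1), (11, 1), (13, 1)]) (bad := []) h (by decide +kernel) (by norm_num) (by norm_num) (by decide +kernel)
    fun _ d hd => absurd hd (List.not_mem_nil)

/-! ### Ru -/

theorem Ru_7_13 {S : Type u} [Group S] [Finite S] (h : Nat.card S = 2 ^ 14 * 3 ^ 3 * 5 ^ 3 * 7 * 13 * 29) :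
    ∀ g : S, Gen0 (orderOf g) 7 13 :=
  gen0_group (fac := [(2, 14), (3, 3), (5, 3), (7, 1), (13, 1), (29, 1)]) (bad := []) h (by decide +kernel) (by norm_num) (by norm_num) (by decide +kernel)
    fun _ d hd => absurd hd (List.not_mem_nil)

theorem Ru_7_29 {S : Type u} [Group S] [Finite S] (h : Nat.card S = 2 ^ 14 * 3 ^ 3 * 5 ^ 3 * 7 * 13 * 29) :
    ∀ g : S, Gen0 (orderOf g) 7 29 :=
  gen0_group (fac := [(2, 14), (3, 3), (5, 3), (7, 1), (13, 1), (29, 1)]) (bad := []) h (by decide +kernel) (by norm_num) (by norm_num) (by decide +kernel)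
    fun _ d hd => absurd hd (List.not_mem_nil)

theorem Ru_13_29 {S : Type u} [Group S] [Finite S] (h : Nat.card S = 2 ^ 14 * 3 ^ 3 * 5 ^ 3 * 7 * 13 * 29)
    (hbad : ∀ g : S, ∀ d ∈ ([7] : List ℕ), ¬ d ∣ orderOf g) : ∀ g : S, Gen0 (orderOf g) 13 29 :=
  gen0_group (fac := [(2, 14), (3, 3), (5, 3), (7, 1), (13, 1), (29, 1)]) h (by decide +kernel) (by norm_num) (by norm_num) (by decide +kernel) hbad

/-! ### McL -/

theorem McL_7_11 {S : Type u} [Group S] [Finite S] (h : Nat.card S = 2 ^ 7 * 3 ^ 6 * 5 ^ 3 * 7 * 11) :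
    ∀ g : S, Gen0 (orderOf g) 7 11 :=
  gen0_group (fac := [(2, 7), (3, 6), (5, 3), (7, 1), (11, 1)]) (bad := []) h (by decide +kernel) (by norm_num) (by norm_num) (by decide +kernel)
    fun _ d hd => absurd hd (List.not_mem_nil)

/-! ### Co2 -/

theorem Co2_7_11 {S : Type u} [Group S] [Finite S] (h : Nat.card S = 2 ^ 18 * 3 ^ 6 * 5 ^ 3 * 7 * 11 * 23) :
    ∀ g : S, Gen0 (orderOf g) 7 11 :=
  gen0_group (fac := [(2, 18), (3, 6), (5, 3), (7, 1), (11, 1), (23, 1)]) (bad := []) h (by decide +kernel) (by norm_num) (by norm_num) (by decide +kernel)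
    fun _ d hd => absurd hd (List.not_mem_nil)

theorem Co2_7_23 {S : Type u} [Group S] [Finite S] (h : Nat.card S = 2 ^ 18 * 3 ^ 6 * 5 ^ 3 * 7 * 11 * 23) :
    ∀ g : S, Gen0 (orderOf g) 7 23 :=
  gen0_group (fac := [(2, 18), (3, 6), (5, 3), (7, 1), (11, 1), (23, 1)]) (bad := []) h (by decide +kernel) (by norm_num) (by norm_num) (by decide +kernel)
    fun _ d hd => absurd hd (List.not_mem_nil)

theorem Co2_11_23 {S : Type u} [Group S] [Finite S] (h : Nat.card S = 2 ^ 18 * 3 ^ 6 * 5 ^ 3 * 7 * 11 * 23)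
    (hbad : ∀ g : S, ∀ d ∈ ([7 * 9] : List ℕ), ¬ d ∣ orderOf g) : ∀ g : S, Gen0 (orderOf g) 11 23 :=
  gen0_group (fac := [(2, 18), (3, 6), (5, 3), (7, 1), (11, 1), (23, 1)]) h (by decide +kernel) (by norm_num) (by norm_num) (by decide +kernel) hbad

/-! ### Co3 -/

theorem Co3_7_11 {S : Type u} [Group S] [Finite S] (h : Nat.card S = 2 ^ 10 * 3 ^ 7 * 5 ^ 3 * 7 * 11 * 23) :
    ∀ g : S, Gen0 (orderOf g) 7 11 :=
  gen0_group (fac := [(2, 10), (3, 7), (5, 3), (7, 1), (11, 1), (23, 1)]) (bad := []) h (by decide +kernel) (by norm_num) (by norm_num) (by decide +kernel)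
    fun _ d hd => absurd hd (List.not_mem_nil)

theorem Co3_7_23 {S : Type u} [Group S] [Finite S] (h : Nat.card S = 2 ^ 10 * 3 ^ 7 * 5 ^ 3 * 7 * 11 * 23) :
    ∀ g : S, Gen0 (orderOf g) 7 23 :=
  gen0_group (fac := [(2, 10), (3, 7), (5, 3), (7, 1), (11, 1), (23, 1)]) (bad := []) h (by decide +kernel) (by norm_num) (by norm_num) (by decide +kernel)
    fun _ d hd => absurd hd (List.not_mem_nil)

theorem Co3_11_23 {S : Type u} [Group S] [Finite S] (h : Nat.card S = 2 ^ 10 * 3 ^ 7 * 5 ^ 3 * 7 * 11 * 23)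
    (hbad : ∀ g : S, ∀ d ∈ ([7 * 9] : List ℕ), ¬ d ∣ orderOf g) : ∀ g : S, Gen0 (orderOf g) 11 23 :=
  gen0_group (fac := [(2, 10), (3, 7), (5, 3), (7, 1), (11, 1), (23, 1)]) h (by decide +kernel) (by norm_num) (by norm_num) (by decide +kernel) hbad

/-! ### Fi22 -/

theorem Fi22_7_11 {S : Type u} [Group S] [Finite S] (h : Nat.card S = 2 ^ 17 * 3 ^ 9 * 5 ^ 2 * 7 * 11 * 13) :
    ∀ g : S, Gen0 (orderOf g) 7 11 :=
  gen0_group (fac := [(2, 17), (3, 9), (5, 2), (7, 1), (11, 1), (13, 1)]) (bad := []) h (by decide +kernel) (by norm_num) (by norm_num) (by decide +kernel)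
    fun _ d hd => absurd hd (List.not_mem_nil)

theorem Fi22_7_13 {S : Type u} [Group S] [Finite S] (h : Nat.card S = 2 ^ 17 * 3 ^ 9 * 5 ^ 2 * 7 * 11 * 13) :
    ∀ g : S, Gen0 (orderOf g) 7 13 :=
  gen0_group (fac := [(2, 17), (3, 9), (5, 2), (7, 1), (11, 1), (13, 1)]) (bad := []) h (by decide +kernel) (by norm_num) (by norm_num) (by decide +kernel)
    fun _ d hd => absurd hd (List.not_mem_nil)

theorem Fi22_11_13 {S : Type u} [Group S] [Finite S] (h : Nat.card S = 2 ^ 17 * 3 ^ 9 * 5 ^ 2 * 7 * 11 * 13) :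
    ∀ g : S, Gen0 (orderOf g) 11 13 :=
  gen0_group (fac := [(2, 17), (3, 9), (5, 2), (7, 1), (11, 1), (13, 1)]) (bad := []) h (by decide +kernel) (by norm_num) (by norm_num) (by decide +kernel)
    fun _ d hd => absurd hd (List.not_mem_nil)

/-! ### HS -/

theorem HS_7_11 {S : Type u} [Group S] [Finite S] (h : Nat.card S = 2 ^ 9 * 3 ^ 2 * 5 ^ 3 * 7 * 11) :
    ∀ g : S, Gen0 (orderOf g) 7 11 :=
  gen0_group (fac := [(2, 9), (3, 2), (5, 3), (7, 1), (11, 1)]) (bad := []) h (by decide +kernel) (by norm_num) (by norm_num) (by decide +kernel)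
    fun _ d hd => absurd hd (List.not_mem_nil)

/-! ### J1 -/

theorem J1_3_5 {S : Type u} [Group S] [Finite S] (h : Nat.card S = 2 ^ 3 * 3 * 5 * 7 * 11 * 19) :
    ∀ g : S, Gen0 (orderOf g) 3 5 :=
  gen0_group (fac := [(2, 3), (3, 1), (5, 1), (7, 1), (11, 1), (19, 1)]) (bad := []) h (by decide +kernel) (by norm_num) (by norm_num) (by decide +kernel)
    fun _ d hd => absurd hd (List.not_mem_nil)

theorem J1_3_7 {S : Type u} [Group S] [Finite S] (h : Nat.card S = 2 ^ 3 * 3 * 5 * 7 * 11 * 19) :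
    ∀ g : S, Gen0 (orderOf g) 3 7 :=
  gen0_group (fac := [(2, 3), (3, 1), (5, 1), (7, 1), (11, 1), (19, 1)]) (bad := []) h (by decide +kernel) (by norm_num) (by norm_num) (by decide +kernel)
    fun _ d hd => absurd hd (List.not_mem_nil)

theorem J1_3_11 {S : Type u} [Group S] [Finite S] (h : Nat.card S = 2 ^ 3 * 3 * 5 * 7 * 11 * 19) :
    ∀ g : S, Gen0 (orderOf g) 3 11 :=
  gen0_group (fac := [(2, 3), (3, 1), (5, 1), (7, 1), (11, 1), (19, 1)]) (bad := []) h (by decide +kernel) (by norm_num) (by norm_num) (by decide +kernel)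
    fun _ d hd => absurd hd (List.not_mem_nil)

theorem J1_3_19 {S : Type u} [Group S] [Finite S] (h : Nat.card S = 2 ^ 3 * 3 * 5 * 7 * 11 * 19) :
    ∀ g : S, Gen0 (orderOf g) 3 19 :=
  gen0_group (fac := [(2, 3), (3, 1), (5, 1), (7, 1), (11, 1), (19, 1)]) (bad := []) h (by decide +kernel) (by norm_num) (by norm_num) (by decide +kernel)
    fun _ d hd => absurd hd (List.not_mem_nil)

theorem J1_5_7 {S : Type u} [Group S] [Finite S] (h : Nat.card S = 2 ^ 3 * 3 * 5 * 7 * 11 * 19) :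
    ∀ g : S, Gen0 (orderOf g) 5 7 :=
  gen0_group (fac := [(2, 3), (3, 1), (5, 1), (7, 1), (11, 1), (19, 1)]) (bad := []) h (by decide +kernel) (by norm_num) (by norm_num) (by decide +kernel)
    fun _ d hd => absurd hd (List.not_mem_nil)

theorem J1_5_11 {S : Type u} [Group S] [Finite S] (h : Nat.card S = 2 ^ 3 * 3 * 5 * 7 * 11 * 19) :
    ∀ g : S, Gen0 (orderOf g) 5 11 :=
  gen0_group (fac := [(2, 3), (3, 1), (5, 1), (7, 1), (11, 1), (19, 1)]) (bad := []) h (by decide +kernel) (by norm_num) (by norm_num) (by decide +kernel)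
    fun _ d hd => absurd hd (List.not_mem_nil)

theorem J1_5_19 {S : Type u} [Group S] [Finite S] (h : Nat.card S = 2 ^ 3 * 3 * 5 * 7 * 11 * 19) :
    ∀ g : S, Gen0 (orderOf g) 5 19 :=
  gen0_group (fac := [(2, 3), (3, 1), (5, 1), (7, 1), (11, 1), (19, 1)]) (bad := []) h (by decide +kernel) (by norm_num) (by norm_num) (by decide +kernel)
    fun _ d hd => absurd hd (List.not_mem_nil)

theorem J1_7_11 {S : Type u} [Group S] [Finite S] (h : Nat.card S = 2 ^ 3 * 3 * 5 * 7 * 11 * 19)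
    (hbad : ∀ g : S, ∀ d ∈ ([19] : List ℕ), ¬ d ∣ orderOf g) : ∀ g : S, Gen0 (orderOf g) 7 11 :=
  gen0_group (fac := [(2, 3), (3, 1), (5, 1), (7, 1), (11, 1), (19, 1)]) h (by decide +kernel) (by norm_num) (by norm_num) (by decide +kernel) hbad

theorem J1_7_19 {S : Type u} [Group S] [Finite S] (h : Nat.card S = 2 ^ 3 * 3 * 5 * 7 * 11 * 19) :
    ∀ g : S, Gen0 (orderOf g) 7 19 :=
  gen0_group (fac := [(2, 3), (3, 1), (5, 1), (7, 1), (11, 1), (19, 1)]) (bad := []) h (by decide +kernel) (by norm_num) (by norm_num) (by decide +kernel)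
    fun _ d hd => absurd hd (List.not_mem_nil)

theorem J1_11_19 {S : Type u} [Group S] [Finite S] (h : Nat.card S = 2 ^ 3 * 3 * 5 * 7 * 11 * 19) :
    ∀ g : S, Gen0 (orderOf g) 11 19 :=
  gen0_group (fac := [(2, 3), (3, 1), (5, 1), (7, 1), (11, 1), (19, 1)]) (bad := []) h (by decide +kernel) (by norm_num) (by norm_num) (by decide +kernel)
    fun _ d hd => absurd hd (List.not_mem_nil)

/-! ### J3 -/

theorem J3_5_17 {S : Type u} [Group S] [Finite S] (h : Nat.card S = 2 ^ 7 * 3 ^ 5 * 5 * 17 * 19) :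
    ∀ g : S, Gen0 (orderOf g) 5 17 :=
  gen0_group (fac := [(2, 7), (3, 5), (5, 1), (17, 1), (19, 1)]) (bad := []) h (by decide +kernel) (by norm_num) (by norm_num) (by decide +kernel)
    fun _ d hd => absurd hd (List.not_mem_nil)

theorem J3_5_19 {S : Type u} [Group S] [Finite S] (h : Nat.card S = 2 ^ 7 * 3 ^ 5 * 5 * 17 * 19) :
    ∀ g : S, Gen0 (orderOf g) 5 19 :=
  gen0_group (fac := [(2, 7), (3, 5), (5, 1), (17, 1), (19, 1)]) (bad := []) h (by decide +kernel) (by norm_num) (by norm_num) (by decide +kernel)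
    fun _ d hd => absurd hd (List.not_mem_nil)

theorem J3_17_19 {S : Type u} [Group S] [Finite S] (h : Nat.card S = 2 ^ 7 * 3 ^ 5 * 5 * 17 * 19)
    (hbad : ∀ g : S, ∀ d ∈ ([9] : List ℕ), ¬ d ∣ orderOf g) : ∀ g : S, Gen0 (orderOf g) 17 19 :=
  gen0_group (fac := [(2, 7), (3, 5), (5, 1), (17, 1), (19, 1)]) h (by decide +kernel) (by norm_num) (by norm_num) (by decide +kernel) hbad

/-! ### M11 -/

theorem M11_5_11 {S : Type u} [Group S] [Finite S] (h : Nat.card S = 2 ^ 4 * 3 ^ 2 * 5 * 11) :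
    ∀ g : S, Gen0 (orderOf g) 5 11 :=
  gen0_group (fac := [(2, 4), (3, 2), (5, 1), (11, 1)]) (bad := []) h (by decide +kernel) (by norm_num) (by norm_num) (by decide +kernel)
    fun _ d hd => absurd hd (List.not_mem_nil)

/-! ### M12 -/

theorem M12_5_11 {S : Type u} [Group S] [Finite S] (h : Nat.card S = 2 ^ 6 * 3 ^ 3 * 5 * 11) :
    ∀ g : S, Gen0 (orderOf g) 5 11 :=
  gen0_group (fac := [(2, 6), (3, 3), (5, 1), (11, 1)]) (bad := []) h (by decide +kernel) (by norm_num) (by norm_num) (by decide +kernel)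
    fun _ d hd => absurd hd (List.not_mem_nil)

/-! ### M22 -/

theorem M22_5_7 {S : Type u} [Group S] [Finite S] (h : Nat.card S = 2 ^ 7 * 3 ^ 2 * 5 * 7 * 11) :
    ∀ g : S, Gen0 (orderOf g) 5 7 :=
  gen0_group (fac := [(2, 7), (3, 2), (5, 1), (7, 1), (11, 1)]) (bad := []) h (by decide +kernel) (by norm_num) (by norm_num) (by decide +kernel)
    fun _ d hd => absurd hd (List.not_mem_nil)

theorem M22_5_11 {S : Type u} [Group S] [Finite S] (h : Nat.card S = 2 ^ 7 * 3 ^ 2 * 5 * 7 * 11)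
    (hbad : ∀ g : S, ∀ d ∈ ([7 * 9] : List ℕ), ¬ d ∣ orderOf g) : ∀ g : S, Gen0 (orderOf g) 5 11 :=
  gen0_group (fac := [(2, 7), (3, 2), (5, 1), (7, 1), (11, 1)]) h (by decide +kernel) (by norm_num) (by norm_num) (by decide +kernel) hbad

theorem M22_7_11 {S : Type u} [Group S] [Finite S] (h : Nat.card S = 2 ^ 7 * 3 ^ 2 * 5 * 7 * 11) :
    ∀ g : S, Gen0 (orderOf g) 7 11 :=
  gen0_group (fac := [(2, 7), (3, 2), (5, 1), (7, 1), (11, 1)]) (bad := []) h (by decide +kernel) (by norm_num) (by norm_num) (by decide +kernel)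
    fun _ d hd => absurd hd (List.not_mem_nil)

/-! ### M23 -/

theorem M23_5_7 {S : Type u} [Group S] [Finite S] (h : Nat.card S = 2 ^ 7 * 3 ^ 2 * 5 * 7 * 11 * 23) :
    ∀ g : S, Gen0 (orderOf g) 5 7 :=
  gen0_group (fac := [(2, 7), (3, 2), (5, 1), (7, 1), (11, 1), (23, 1)]) (bad := []) h (by decide +kernel) (by norm_num) (by norm_num) (by decide +kernel)
    fun _ d hd => absurd hd (List.not_mem_nil)

theorem M23_5_11 {S : Type u} [Group S] [Finite S] (h : Nat.card S = 2 ^ 7 * 3 ^ 2 * 5 * 7 * 11 * 23)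
    (hbad : ∀ g : S, ∀ d ∈ ([7 * 9] : List ℕ), ¬ d ∣ orderOf g) : ∀ g : S, Gen0 (orderOf g) 5 11 :=
  gen0_group (fac := [(2, 7), (3, 2), (5, 1), (7, 1), (11, 1), (23, 1)]) h (by decide +kernel) (by norm_num) (by norm_num) (by decide +kernel) hbad

theorem M23_5_23 {S : Type u} [Group S] [Finite S] (h : Nat.card S = 2 ^ 7 * 3 ^ 2 * 5 * 7 * 11 * 23)
    (hbad : ∀ g : S, ∀ d ∈ ([7 * 9] : List ℕ), ¬ d ∣ orderOf g) : ∀ g : S, Gen0 (orderOf g) 5 23 :=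
  gen0_group (fac := [(2, 7), (3, 2), (5, 1), (7, 1), (11, 1), (23, 1)]) h (by decide +kernel) (by norm_num) (by norm_num) (by decide +kernel) hbad

theorem M23_7_11 {S : Type u} [Group S] [Finite S] (h : Nat.card S = 2 ^ 7 * 3 ^ 2 * 5 * 7 * 11 * 23) :
    ∀ g : S, Gen0 (orderOf g) 7 11 :=
  gen0_group (fac := [(2, 7), (3, 2), (5, 1), (7, 1), (11, 1), (23, 1)]) (bad := []) h (by decide +kernel) (by norm_num) (by norm_num) (by decide +kernel)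
    fun _ d hd => absurd hd (List.not_mem_nil)

theorem M23_7_23 {S : Type u} [Group S] [Finite S] (h : Nat.card S = 2 ^ 7 * 3 ^ 2 * 5 * 7 * 11 * 23) :
    ∀ g : S, Gen0 (orderOf g) 7 23 :=
  gen0_group (fac := [(2, 7), (3, 2), (5, 1), (7, 1), (11, 1), (23, 1)]) (bad := []) h (by decide +kernel) (by norm_num) (by norm_num) (by decide +kernel)
    fun _ d hd => absurd hd (List.not_mem_nil)

theorem M23_11_23 {S : Type u} [Group S] [Finite S] (h : Nat.card S = 2 ^ 7 * 3 ^ 2 * 5 * 7 * 11 * 23)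
    (hbad : ∀ g : S, ∀ d ∈ ([7 * 9] : List ℕ), ¬ d ∣ orderOf g) : ∀ g : S, Gen0 (orderOf g) 11 23 :=
  gen0_group (fac := [(2, 7), (3, 2), (5, 1), (7, 1), (11, 1), (23, 1)]) h (by decide +kernel) (by norm_num) (by norm_num) (by decide +kernel) hbad

/-! ### M24 -/

theorem M24_5_7 {S : Type u} [Group S] [Finite S] (h : Nat.card S = 2 ^ 10 * 3 ^ 3 * 5 * 7 * 11 * 23) :
    ∀ g : S, Gen0 (orderOf g) 5 7 :=
  gen0_group (fac := [(2, 10), (3, 3), (5, 1), (7, 1), (11, 1), (23, 1)]) (bad := []) h (by decide +kernel) (by norm_num) (by norm_num) (by decide +kernel)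
    fun _ d hd => absurd hd (List.not_mem_nil)

theorem M24_5_11 {S : Type u} [Group S] [Finite S] (h : Nat.card S = 2 ^ 10 * 3 ^ 3 * 5 * 7 * 11 * 23)
    (hbad : ∀ g : S, ∀ d ∈ ([7 * 9] : List ℕ), ¬ d ∣ orderOf g) : ∀ g : S, Gen0 (orderOf g) 5 11 :=
  gen0_group (fac := [(2, 10), (3, 3), (5, 1), (7, 1), (11, 1), (23, 1)]) h (by decide +kernel) (by norm_num) (by norm_num) (by decide +kernel) hbad

theorem M24_5_23 {S : Type u} [Group S] [Finite S] (h : Nat.card S = 2 ^ 10 * 3 ^ 3 * 5 * 7 * 11 * 23)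
    (hbad : ∀ g : S, ∀ d ∈ ([7 * 9] : List ℕ), ¬ d ∣ orderOf g) : ∀ g : S, Gen0 (orderOf g) 5 23 :=
  gen0_group (fac := [(2, 10), (3, 3), (5, 1), (7, 1), (11, 1), (23, 1)]) h (by decide +kernel) (by norm_num) (by norm_num) (by decide +kernel) hbad

theorem M24_7_11 {S : Type u} [Group S] [Finite S] (h : Nat.card S = 2 ^ 10 * 3 ^ 3 * 5 * 7 * 11 * 23) :
    ∀ g : S, Gen0 (orderOf g) 7 11 :=
  gen0_group (fac := [(2, 10), (3, 3), (5, 1), (7, 1), (11, 1), (23, 1)]) (bad := []) h (by decide +kernel) (by norm_num) (by norm_num) (by decide +kernel)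
    fun _ d hd => absurd hd (List.not_mem_nil)

theorem M24_7_23 {S : Type u} [Group S] [Finite S] (h : Nat.card S = 2 ^ 10 * 3 ^ 3 * 5 * 7 * 11 * 23) :
    ∀ g : S, Gen0 (orderOf g) 7 23 :=
  gen0_group (fac := [(2, 10), (3, 3), (5, 1), (7, 1), (11, 1), (23, 1)]) (bad := []) h (by decide +kernel) (by norm_num) (by norm_num) (by decide +kernel)
    fun _ d hd => absurd hd (List.not_mem_nil)

theorem M24_11_23 {S : Type u} [Group S] [Finite S] (h : Nat.card S = 2 ^ 10 * 3 ^ 3 * 5 * 7 * 11 * 23)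
    (hbad : ∀ g : S, ∀ d ∈ ([7 * 9] : List ℕ), ¬ d ∣ orderOf g) : ∀ g : S, Gen0 (orderOf g) 11 23 :=
  gen0_group (fac := [(2, 10), (3, 3), (5, 1), (7, 1), (11, 1), (23, 1)]) h (by decide +kernel) (by norm_num) (by norm_num) (by decide +kernel) hbad

end Cfsg.Agent.H494.B0R
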