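import Cfsg.Agent.H494.B0R.OrdTool
import Cfsg.Agent.H465.PiBSMon
import Cfsg.Agent.H31.TwoCyc.MPart
import Cfsg.Agent.H438.Fpr.MonE

/-!
# The Monster: missing element orders (helper494)

* `seven_thirteen` : no element of order 7 commutes with an element of order 13; `ex7_13`
* `not_25_41` : no element of order 25 commutes with an element of order 41; `ex25_41`
-/

set_option autoImplicit false
set_option maxRecDepth 100000
set_option linter.unusedSectionVars false

namespace Cfsg.Agent.H494.B0R.OrdM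

open Cfsg Cfsg.Agent.MonsterX Cfsg.Agent.MonsterX.InstData Cfsg.Agent.MonsterX.MainPack Cfsg.Agent.MonsterU
open Cfsg.Agent.MonsterP Cfsg.Agent.MonsterN Cfsg.Agent.LThreeMB
open Cfsg.Agent.MonsterX.MainBasic Cfsg.Agent.MonsterX.MainSimple Cfsg.Agent.MonsterX.Model
open Cfsg.Agent.MonsterU.Lam2 Cfsg.Agent.MonsterU.TwoCls
open Cfsg.Agent.BpSpor.MBigModel
open Cfsg.Agent.H199.NSmMon
open Cfsg.Agent.H31.TwoCyc.MPart (Full exists_full5 exists_full7)
open Cfsg.Agent.H438.Fpr.LemB (Nice part_in)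
open Cfsg.Agent.H494.B0R.OrdTool
open Subgroup

/-- a full element in the center of a given Sylow subgroup -/
theorem exists_center {p : ℕ} [hp : Fact p.Prime] {x : MG} (hxo : orderOf x = p) (hf : Full p x) (P : Sylow p MG) :
    ∃ c : MG, c * x * c⁻¹ ∈ (P : Subgroup MG) ∧ ∀ s ∈ (P : Subgroup MG), s * (c * x * c⁻¹) = c * x * c⁻¹ * s := by
  have := finite
  obtain ⟨S⟩ : Nonempty (Sylow p ↥(centralizer ({x} : Set MG))) := inferInstance
  set T : Subgroup MG := (S : Subgroup ↥(centralizer ({x} : Set MG))).map (centralizer ({x} : Set MG)).subtype with hT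
  have hTp : IsPGroup p ↥T := S.isPGroup'.map _
  obtain ⟨R, hR⟩ := hTp.exists_le_sylow
  have hTR : T = R := by
    refine Subgroup.eq_of_le_of_card_ge hR ?_
    obtain ⟨b, hb⟩ := IsPGroup.iff_card.1 R.isPGroup'
    rw [hT, Subgroup.card_map_of_injective (Subgroup.subtype_injective _), hb]
    refine Nat.le_of_dvd Nat.card_pos (S.pow_dvd_card_of_pow_dvd_card (hf b ?_))
    rw [← hb]
    exact Subgroup.card_subgroup_dvd_card _
  obtain ⟨c, hc⟩ := MulAction.exists_smul_eq MG R P
  have h1 : ∀ s ∈ (P : Subgroup MG), s * (c * x * c⁻¹) = c * x * c⁻¹ * s := by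
    intro s hs
    rw [← hc] at hs
    obtain ⟨r, hr, hrs⟩ := hs
    have h2 : c * r * c⁻¹ = s := hrs
    have h3 : r ∈ centralizer ({x} : Set MG) := by
      have h4 : r ∈ (R : Subgroup MG) := hr
      rw [← hTR] at h4
      exact Subgroup.map_subtype_le _ h4
    rw [← h2]
    calc c * r * c⁻¹ * (c * x * c⁻¹) = c * (r * x) * c⁻¹ := by group
      _ = c * (x * r) * c⁻¹ := by rw [mem_centralizer_singleton_iff.1 h3]
      _ = _ := by group
  refine ⟨c, ?_, h1⟩
  have hcx : orderOf (c * x * c⁻¹) = p := by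
    rw [← hxo]
    exact orderOf_injective (MulAut.conj c).toMonoidHom (MulAut.conj c).injective x
  have h2 : IsPGroup p ↥(zpowers (c * x * c⁻¹)) :=
    IsPGroup.of_card (n := 1) (by rw [Nat.card_zpowers, hcx, pow_one])
  have h3 := h2.inf_normalizer_sylow P
  have h4 : c * x * c⁻¹ ∈ zpowers (c * x * c⁻¹) ⊓ normalizer ((P : Subgroup MG) : Set MG) := by
    refine mem_inf.2 ⟨mem_zpowers _, mem_normalizer_iff.2 fun s => ?_⟩
    constructor
    · intro hs
      rw [← h1 s hs, mul_inv_cancel_right]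
      exact hs
    · intro hs
      have h5 := h1 _ hs
      have h6 : (c * x * c⁻¹) * s * (c * x * c⁻¹)⁻¹ = s := by
        have h7 : (c * x * c⁻¹) * ((c * x * c⁻¹) * s * (c * x * c⁻¹)⁻¹) = (c * x * c⁻¹) * s := by
          rw [← h5, inv_mul_cancel_right]
        exact mul_left_cancel h7
      rwa [h6] at hs
  have h5 : c * x * c⁻¹ ∈ zpowers (c * x * c⁻¹) ⊓ (P : Subgroup MG) := h3 ▸ h4
  exact (mem_inf.1 h5).2

/-- conjugates of elements of `C(z)` -/
theorem conj_comm {x : centralizer ({zz} : Set MG)} (c : MG) :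
    (c * zz * c⁻¹) * (c * (x : MG) * c⁻¹) = (c * (x : MG) * c⁻¹) * (c * zz * c⁻¹) := by
  have h : (x : MG) * zz = zz * x := mem_centralizer_singleton_iff.1 x.2
  calc (c * zz * c⁻¹) * (c * (x : MG) * c⁻¹) = c * (zz * x) * c⁻¹ := by group
    _ = c * (x * zz) * c⁻¹ := by rw [h]
    _ = _ := by group

theorem dvd_of_comm {x y : MG} (h : x * y = y * x) : orderOf x ∣ Nat.card ↥(centralizer ({y} : Set MG)) :=
  Subgroup.orderOf_dvd_natCard _ (mem_centralizer_singleton_iff.2 h)

/-- **No element of order 7 commutes with an element of order 13.** -/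
theorem seven_thirteen {y b : MG} (hy : orderOf y = 7) (hb : orderOf b = 13) (hc : y * b = b * y) : False := by
  have := finite
  have h7p : Nat.Prime 7 := by norm_num
  have h13p : Nat.Prime 13 := by norm_num
  have hf7 : Fact (Nat.Prime 7) := ⟨h7p⟩
  have hf13 : Fact (Nat.Prime 13) := ⟨h13p⟩
  set X : Subgroup MG := centralizer ({y} : Set MG) with hX
  have hbX : b ∈ X := mem_centralizer_singleton_iff.2 hc.symm
  have hyX : y ∈ X := mem_centralizer_singleton_iff.2 rfl
  -- `|C(y)|` is odd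
  have ho : Odd (Nat.card X) := by
    rw [← Nat.not_even_iff_odd, even_iff_two_dvd]
    intro h2
    have hf2 : Fact (Nat.Prime 2) := ⟨Nat.prime_two⟩
    obtain ⟨w, hw⟩ := exists_prime_orderOf_dvd_card' 2 h2
    have hwo : orderOf (w : MG) = 2 := by rw [Subgroup.orderOf_coe, hw]
    refine H465.SporB.Mon.false_of_comm hb hy (w := (w : MG)) ?_ ?_ (mem_centralizer_singleton_iff.1 w.2) hc
    · rw [← pow_two, ← hwo, pow_orderOf_eq_one]
    · intro h
      rw [h, orderOf_one] at hwo
      norm_num at hwo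
  -- the Sylow 13-subgroups of `C(y)`
  have h13 : ¬ 13 ^ 2 ∣ Nat.card X := by
    intro h
    obtain ⟨R0, hR0⟩ := Sylow.exists_subgroup_card_pow_prime 13 h
    set R : Subgroup MG := R0.map X.subtype with hR
    have hRc : Nat.card R = 13 ^ 2 := by rw [hR, card_map_of_injective X.subtype_injective, hR0]
    obtain ⟨u, huR, huo, hui⟩ := exists_full_mem (p := 13) (R := R) (IsPGroup.of_card hRc) (by
      intro h1
      rw [h1, card_bot] at hRc
      norm_num at hRc) (by rw [hRc, card_M]; norm_num)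
    refine H465.SporB.Mon.no_seven huo hui ?_
    rw [← hy]
    have h1 : u ∈ X := map_subtype_le _ huR
    exact dvd_of_comm (mem_centralizer_singleton_iff.1 h1).symm
  have hN : Nice 13 ↥X := by
    refine Nice.of_solIdx h13p (hb ▸ dvd_of_comm hc.symm) h13 ?_
    exact Cfsg.Agent.H291.SolNorm.SolIdx.of_solvable (by norm_num) (S0205.result ho)
  -- the Sylow 7-subgroup
  set D : Subgroup ↥X := centralizer ({(⟨b, hbX⟩ : ↥X)} : Set ↥X) with hD
  have hpart : ∀ k, 7 ^ k ∣ Nat.card X → 7 ^ k ∣ Nat.card D := fun k hk =>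
    part_in h13p h13 (by rw [Subgroup.orderOf_mk, hb]) hN h7p (by norm_num) (by norm_num) (by
      intro i hi hd
      have h1 : 7 ^ i ∣ Nat.card MG := hd.trans (card_subgroup_dvd_card X)
      rw [card_M] at h1
      have h2 : i ≤ 6 := by
        by_contra hcon
        have h3 := (pow_dvd_pow 7 (by omega : 7 ≤ i)).trans h1
        norm_num at h3
      interval_cases i <;> norm_num) hk
  obtain ⟨T0⟩ : Nonempty (Sylow 7 ↥D) := inferInstance
  set T : Subgroup MG := ((T0 : Subgroup ↥D).map D.subtype).map X.subtype with hT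
  have hTp : IsPGroup 7 ↥T := (T0.isPGroup'.map _).map _
  have hTc : ∀ k, 7 ^ k ∣ Nat.card X → 7 ^ k ∣ Nat.card T := fun k hk => by
    rw [hT, card_map_of_injective X.subtype_injective, card_map_of_injective D.subtype_injective]
    exact T0.pow_dvd_card_of_pow_dvd_card (hpart k hk)
  have hTX : T ≤ X := map_subtype_le _
  have hTb : ∀ t ∈ T, t * b = b * t := by
    rintro _ ⟨_, ⟨t, ht, rfl⟩, rfl⟩
    exact congrArg Subtype.val (mem_centralizer_singleton_iff.1 t.2)
  obtain ⟨P, hP⟩ := hTp.exists_le_sylow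
  -- `y ∈ T`
  have hall : ∀ g ∈ (P : Subgroup MG), g ∈ X → g ∈ T := by
    have h1 : T = (P : Subgroup MG) ⊓ X := by
      refine eq_of_le_of_card_ge (le_inf hP hTX) ?_
      obtain ⟨k, hk⟩ := IsPGroup.iff_card.1 (P.isPGroup'.to_le (inf_le_left (b := X)))
      rw [hk]
      refine Nat.le_of_dvd Nat.card_pos (hTc k ?_)
      rw [← hk]
      exact card_dvd_of_le inf_le_right
    intro g hg hgX
    rw [h1]
    exact mem_inf.2 ⟨hg, hgX⟩
  have hyP : y ∈ (P : Subgroup MG) := by
    -- `T ⟨y⟩` is a 7-subgroup of `X`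
    have hyp : IsPGroup 7 ↥(zpowers y) := IsPGroup.of_card (n := 1) (by rw [Nat.card_zpowers, hy, pow_one])
    have h1 : IsPGroup 7 ↥(T ⊔ zpowers y) := by
      refine hTp.to_sup_of_normal_right' hyp ?_
      intro t ht
      refine mem_normalizer_iff.2 fun s => ?_
      have h2 : ∀ s ∈ zpowers y, t * s * t⁻¹ = s := by
        rintro _ ⟨i, rfl⟩
        exact mul_inv_eq_iff_eq_mul.2 ((show Commute t y from mem_centralizer_singleton_iff.1 (hTX ht)).zpow_right i).eq
      constructor
      · intro hs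
        rw [h2 s hs]
        exact hs
      · intro hs
        have h3 := h2 _ hs
        have h4 : t * s * t⁻¹ = s := by
          have h5 : t * (t * s * t⁻¹) * t⁻¹ = t * s * t⁻¹ := h3
          exact mul_left_cancel (mul_right_cancel h5)
        rwa [h4] at hs
    have h2 : T = T ⊔ zpowers y := by
      refine eq_of_le_of_card_ge le_sup_left ?_
      obtain ⟨k, hk⟩ := IsPGroup.iff_card.1 h1
      rw [hk]
      refine Nat.le_of_dvd Nat.card_pos (hTc k ?_)
      rw [← hk]
      exact card_dvd_of_le (sup_le hTX (by rwa [zpowers_le]))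
    refine hP ?_
    rw [h2]
    exact mem_sup_right (mem_zpowers y)
  obtain ⟨x0, hx0, -, hf0⟩ := exists_full7
  have hx0o : orderOf (x0 : MG) = 7 := by rw [Subgroup.orderOf_coe, hx0]
  obtain ⟨c, hcP, hcc⟩ := exists_center hx0o hf0 P
  have h1 : c * (x0 : MG) * c⁻¹ ∈ T := hall _ hcP (mem_centralizer_singleton_iff.2 (hcc y hyP).symm)
  have h2 : orderOf (c * (x0 : MG) * c⁻¹) = 7 := by
    rw [← hx0o]
    exact orderOf_injective (MulAut.conj c).toMonoidHom (MulAut.conj c).injective (x0 : MG)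
  refine H465.SporB.Mon.false_of_comm hb h2 (w := c * zz * c⁻¹) ?_ ?_ (conj_comm c) (hTb _ h1)
  · calc c * zz * c⁻¹ * (c * zz * c⁻¹) = c * (zz * zz) * c⁻¹ := by group
      _ = 1 := by rw [zz_sq]; group
  · intro h3
    rw [conj_eq_one_iff] at h3
    exact zz_ne h3

/-- elements of order 5 commuting with an element of order 41 -/
theorem odd_five {u y : MG} (hu : orderOf u = 5) (hy : orderOf y = 41) (huy : u * y = y * u) :
    Odd (Nat.card ↥(centralizer ({u} : Set MG))) ∧ ¬ Ev u := by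
  have := finite
  have h41 : 41 ∣ Nat.card ↥(centralizer ({u} : Set MG)) := hy ▸ dvd_of_comm huy.symm
  have hev : ¬ Ev u := by
    intro he
    rcases five hu he with h | h
    · rw [h] at h41
      norm_num at h41
    · exact h 41 (by unfold Big; simp) h41
  refine ⟨?_, hev⟩
  have hz : Cfsg.Agent.H438.Fpr.Mon.NoZ u := fun g hg => hev ⟨g, hg⟩
  rw [← Nat.not_even_iff_odd, even_iff_two_dvd]
  exact Cfsg.Agent.H438.Fpr.Mon.odd_cent hz h41

/-- **No element of order 25 commutes with an element of order 41.** -/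
theorem not_25_41 {y w : MG} (hy : orderOf y = 41) (hw : orderOf w = 25) (hc : y * w = w * y) : False := by
  have := finite
  have hf5 : Fact (Nat.Prime 5) := ⟨Nat.prime_five⟩
  set D : Subgroup MG := centralizer ({y} : Set MG) with hD
  have hwD : w ∈ D := mem_centralizer_singleton_iff.2 hc.symm
  have hwp : IsPGroup 5 ↥(zpowers (⟨w, hwD⟩ : ↥D)) :=
    IsPGroup.of_card (n := 2) (by rw [Nat.card_zpowers, Subgroup.orderOf_mk, hw]; norm_num)
  obtain ⟨U0, hU0⟩ := hwp.exists_le_sylow
  set U : Subgroup MG := (U0 : Subgroup ↥D).map D.subtype with hU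
  have hwU : w ∈ U := ⟨⟨w, hwD⟩, hU0 (mem_zpowers _), rfl⟩
  have hUD : U ≤ D := map_subtype_le _
  have hUp : IsPGroup 5 ↥U := U0.isPGroup'.map _
  have hUc : ∀ k, 5 ^ k ∣ Nat.card D → 5 ^ k ∣ Nat.card U := fun k hk => by
    rw [hU, card_map_of_injective D.subtype_injective]
    exact U0.pow_dvd_card_of_pow_dvd_card hk
  obtain ⟨m, hm⟩ := IsPGroup.iff_card.1 hUp
  obtain ⟨P, hP⟩ := hUp.exists_le_sylow
  obtain ⟨x0, hx0, -, hf0⟩ := exists_full5
  have hx0o : orderOf (x0 : MG) = 5 := by rw [Subgroup.orderOf_coe, hx0]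
  obtain ⟨c, hcP, hcc⟩ := exists_center hx0o hf0 P
  have h2 : orderOf (c * (x0 : MG) * c⁻¹) = 5 := by
    rw [← hx0o]
    exact orderOf_injective (MulAut.conj c).toMonoidHom (MulAut.conj c).injective (x0 : MG)
  refine no_sq P hcP hcc h2 hP ?_ hwU ?_ ?_ ?_
  · intro h3
    exact (odd_five h2 hy (mem_centralizer_singleton_iff.1 (hUD h3))).2 ⟨c, conj_comm c⟩
  · intro h3
    have h4 := orderOf_dvd_of_pow_eq_one h3
    rw [hw] at h4
    norm_num at h4
  · intro h3
    apply H465.SporB.Mon.no_five hy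
    have h4 : 5 ^ 9 ∣ Nat.card (P : Subgroup MG) := P.pow_dvd_card_of_pow_dvd_card (by rw [card_M]; norm_num)
    rw [h3, hm, ← pow_succ'] at h4
    have h5 : 9 ≤ m + 1 := (Nat.pow_dvd_pow_iff_le_right (by norm_num)).1 h4
    refine Dvd.dvd.trans ?_ (card_dvd_of_le hUD)
    rw [hm]
    exact pow_dvd_pow 5 (by omega)
  · intro u hu huo h3
    have huy : u * y = y * u := mem_centralizer_singleton_iff.1 (hUD hu)
    obtain ⟨ho, -⟩ := odd_five huo hy huy
    rw [hm, ← pow_succ', ← pow_succ'] at h3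
    have h41 : ¬ 41 ^ 2 ∣ Nat.card ↥(centralizer ({u} : Set MG)) := by
      intro h4
      have h5 := h4.trans (card_subgroup_dvd_card _)
      rw [card_M] at h5
      norm_num at h5
    have hN : Nice 41 ↥(centralizer ({u} : Set MG)) :=
      Nice.of_solIdx (by norm_num) (hy ▸ dvd_of_comm huy.symm) h41
        (Cfsg.Agent.H291.SolNorm.SolIdx.of_solvable (by norm_num) (S0205.result ho))
    have h6 := part_mul' (q := 5) (k := m + 1 + 1) (by norm_num) huy.symm h41 hy hN Nat.prime_five (by norm_num) (by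
      intro i hi hd
      have h1 : 5 ^ i ∣ Nat.card MG := hd.trans (card_subgroup_dvd_card _)
      rw [card_M] at h1
      have h2 : i ≤ 9 := by
        by_contra hcon
        have h3 := (pow_dvd_pow 5 (by omega : 10 ≤ i)).trans h1
        norm_num at h3
      interval_cases i <;> norm_num) h3
    have h7 : 5 ^ (m + 1) ∣ 8 * Nat.card D := by
      have h8 : 5 * 5 ^ (m + 1) ∣ 5 * (8 * Nat.card D) := by
        rw [← pow_succ', ← mul_assoc]
        exact h6
      exact Nat.dvd_of_mul_dvd_mul_left (by norm_num) h8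
    have h8 : 5 ^ (m + 1) ∣ Nat.card D := (Nat.Coprime.pow_left (m + 1) (by norm_num)).dvd_of_dvd_mul_left h7
    have h9 := hUc _ h8
    rw [hm] at h9
    have h10 := (Nat.pow_dvd_pow_iff_le_right (by norm_num)).1 h9
    omega

/-! ### The orders -/

theorem pow_comm (g : MG) (i j : ℕ) : g ^ i * g ^ j = g ^ j * g ^ i := ((Commute.refl g).pow_pow i j).eq

theorem ex7_13 {g : MG} (h : 7 ∣ orderOf g) : ¬ 13 ∣ orderOf g := fun h1 => by
  have := finite
  exact seven_thirteen (orderOf_pow_orderOf_div (orderOf_pos g).ne' h) (orderOf_pow_orderOf_div (orderOf_pos g).ne' h1)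
    (pow_comm g _ _)

theorem ex25_41 {g : MG} (h : 25 ∣ orderOf g) : ¬ 41 ∣ orderOf g := fun h1 => by
  have := finite
  exact not_25_41 (orderOf_pow_orderOf_div (orderOf_pos g).ne' h1) (orderOf_pow_orderOf_div (orderOf_pos g).ne' h)
    (pow_comm g _ _)

end Cfsg.Agent.H494.B0R.OrdM
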