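import Mathlib

/-!
# Arithmetic of the rationality engine, form B

`Gen0' o p q` : the inertia at `p`, `q` and the Frobenius elements at `p`, `q` generate a subgroup of
`2`-power index of `(Z/o)ˣ`.

`gen0_of_check` : if the kernel-checked Boolean `check fac p q bad` is true, then `Gen0' n p q` for every
divisor `n` of `N = ∏ r ^ e`, `(r, e) ∈ fac`, which is divisible by no `b ∈ bad`.
-/

set_option autoImplicit false

namespace Cfsg.Agent.H494.B0R

/-- the hypothesis of the engine, form B -/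
def Gen0' (o p q : ℕ) : Prop := ∀ H : Subgroup (ZMod o)ˣ,
  (∀ u : (ZMod o)ˣ, (u : ZMod o).val ≡ 1 [MOD o / p ^ o.factorization p] → u ∈ H) →
  (∀ u : (ZMod o)ˣ, (u : ZMod o).val ≡ p [MOD o / p ^ o.factorization p] → u ∈ H) →
  (∀ u : (ZMod o)ˣ, (u : ZMod o).val ≡ 1 [MOD o / q ^ o.factorization q] → u ∈ H) →
  (∀ u : (ZMod o)ˣ, (u : ZMod o).val ≡ q [MOD o / q ^ o.factorization q] → u ∈ H) →
  ∀ u : (ZMod o)ˣ, ∃ c : ℕ, u ^ (2 ^ c) ∈ H

theorem exists_addHom' {V : Type*} [AddCommGroup V] (l : ℕ) [Fact l.Prime] [Module (ZMod l) V]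
    (v : V) (hv : v ≠ 0) : ∃ φ : V →+ ZMod l, φ v ≠ 0 := by
  obtain ⟨f, hf⟩ := Module.Projective.exists_dual_ne_zero (ZMod l) hv
  exact ⟨f.toAddMonoidHom, hf⟩

theorem exists_addHom {V : Type*} [AddCommGroup V] (l : ℕ) [Fact l.Prime] (h : ∀ x : V, l • x = 0)
    (v : V) (hv : v ≠ 0) : ∃ φ : V →+ ZMod l, φ v ≠ 0 :=
  @exists_addHom' V _ l _ (AddCommGroup.zmodModule h) v hv

/-! ### A character of odd prime order -/

theorem exists_hom {A : Type*} [CommGroup A] [Finite A] (H : Subgroup A)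
    (h : ∃ u : A, ∀ c : ℕ, u ^ (2 ^ c) ∉ H) :
    ∃ l : ℕ, l.Prime ∧ l ≠ 2 ∧ ∃ f : A → ZMod l, (∀ x y, f (x * y) = f x + f y) ∧
      (∃ u, f u ≠ 0) ∧ ∀ u ∈ H, f u = 0 := by
  classical
  obtain ⟨u, hu⟩ := h
  have h1 : ¬ ∃ k, orderOf (u : A ⧸ H) = 2 ^ k := by
    rintro ⟨k, hk⟩
    apply hu k
    have h2 : (u : A ⧸ H) ^ (2 ^ k) = 1 := by rw [← hk, pow_orderOf_eq_one]
    rwa [← QuotientGroup.mk_pow, QuotientGroup.eq_one_iff] at h2
  obtain ⟨l, hl, hdvd, hodd⟩ :=
    (Nat.eq_two_pow_or_exists_odd_prime_and_dvd (orderOf (u : A ⧸ H))).resolve_left h1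
  have := Fact.mk hl
  refine ⟨l, hl, by rintro rfl; exact absurd hodd (by decide), ?_⟩
  -- the power map is not surjective
  have hcard : l ∣ Nat.card (A ⧸ H) := hdvd.trans (orderOf_dvd_natCard _)
  obtain ⟨y, hy⟩ := exists_prime_orderOf_dvd_card' l hcard
  have hns : ¬ Function.Surjective (powMonoidHom l : A ⧸ H →* A ⧸ H) := by
    intro hs
    have hi := Finite.injective_iff_surjective.2 hs
    have h3 : (powMonoidHom l : A ⧸ H →* A ⧸ H) y = (powMonoidHom l : A ⧸ H →* A ⧸ H) 1 := by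
      simp only [powMonoidHom_apply, one_pow]
      rw [← hy, pow_orderOf_eq_one]
    have h4 := hi h3
    rw [h4, orderOf_one] at hy
    exact hl.one_lt.ne hy
  obtain ⟨R, hRdef⟩ : ∃ R : Subgroup (A ⧸ H), R = (powMonoidHom l : A ⧸ H →* A ⧸ H).range := ⟨_, rfl⟩
  have hR : R ≠ ⊤ := fun h => hns (MonoidHom.range_eq_top.1 (hRdef ▸ h))
  obtain ⟨z, hz⟩ : ∃ z : A ⧸ H, z ∉ R := by
    by_contra hcon
    push Not at hcon
    exact hR ((Subgroup.eq_top_iff' R).2 hcon)
  have hz1 : Additive.ofMul (z : (A ⧸ H) ⧸ R) ≠ 0 := by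
    intro h
    rw [ofMul_eq_zero, QuotientGroup.eq_one_iff] at h
    exact hz h
  obtain ⟨φ, hφ⟩ := exists_addHom l (V := Additive ((A ⧸ H) ⧸ R)) (by
    intro x
    obtain ⟨x, rfl⟩ := Additive.ofMul.surjective x
    obtain ⟨x, rfl⟩ := QuotientGroup.mk_surjective x
    rw [← ofMul_pow, ← QuotientGroup.mk_pow, ofMul_eq_zero, QuotientGroup.eq_one_iff, hRdef]
    exact ⟨x, rfl⟩) _ hz1
  refine ⟨fun a => φ (Additive.ofMul (((a : A ⧸ H) : (A ⧸ H) ⧸ R))), ?_, ?_, ?_⟩
  · intro x y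
    show φ (Additive.ofMul (((x * y : A) : A ⧸ H) : (A ⧸ H) ⧸ R)) = _
    rw [QuotientGroup.mk_mul, QuotientGroup.mk_mul, ofMul_mul, map_add]
  · obtain ⟨w, rfl⟩ := QuotientGroup.mk_surjective z
    exact ⟨w, hφ⟩
  · intro a ha
    have h5 : (a : A ⧸ H) = 1 := (QuotientGroup.eq_one_iff a).2 ha
    simp only [h5, QuotientGroup.mk_one, ofMul_one, map_zero]

/-! ### Characters of `(Z/n)ˣ` as functions on numbers -/

/-- `g` is a function on the numbers prime to `n`, with values in `ZMod l`, additive, of period `n` -/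
structure IsLog (n l : ℕ) (g : ℕ → ZMod l) : Prop where
  mul : ∀ x y : ℕ, x.Coprime n → y.Coprime n → g (x * y) = g x + g y
  congr : ∀ x y : ℕ, x.Coprime n → x ≡ y [MOD n] → g x = g y

namespace IsLog

variable {n l : ℕ} {g : ℕ → ZMod l}

theorem one (h : IsLog n l g) : g 1 = 0 := by
  have h1 := h.mul 1 1 (Nat.coprime_one_left n) (Nat.coprime_one_left n)
  rw [mul_one] at h1
  exact left_eq_add.1 h1

theorem pow (h : IsLog n l g) {x : ℕ} (hx : x.Coprime n) (k : ℕ) : g (x ^ k) = k * g x := by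
  induction k with
  | zero => rw [pow_zero, h.one]; simp
  | succ k ih => rw [pow_succ, h.mul _ _ (hx.pow_left k) hx, ih]; push_cast; ring

theorem eq_zero_of_modEq_one (h : IsLog n l g) {x : ℕ} (hx : x ≡ 1 [MOD n]) : g x = 0 := by
  rw [← h.one]
  refine (h.congr 1 x (Nat.coprime_one_left n) hx.symm).symm

/-- `l` does not divide `φ(n)` -/
theorem eq_zero (h : IsLog n l g) (hl : l.Prime) (hn : ¬ l ∣ n.totient) {x : ℕ} (hx : x.Coprime n) :
    g x = 0 := by
  have := Fact.mk hl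
  have h1 : g (x ^ n.totient) = 0 := h.eq_zero_of_modEq_one (Nat.ModEq.pow_totient hx)
  rw [h.pow hx, mul_eq_zero] at h1
  rcases h1 with h1 | h1
  · exact absurd ((ZMod.natCast_eq_zero_iff _ _).1 h1) hn
  · exact h1

end IsLog

theorem unit_eq_iff {m : ℕ} {x y : ℕ} (hx : x.Coprime m) (hy : y.Coprime m) :
    ZMod.unitOfCoprime x hx = ZMod.unitOfCoprime y hy ↔ x ≡ y [MOD m] := by
  rw [Units.ext_iff, ZMod.coe_unitOfCoprime, ZMod.coe_unitOfCoprime, ZMod.natCast_eq_natCast_iff]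

theorem exists_gen {r : ℕ} (hr : r.Prime) (h2 : r ≠ 2) {b v : ℕ} (hb : b ≠ 0) (hbv : b ≤ v) :
    ∃ W : ℕ, W.Coprime r ∧ (∀ k : ℕ, k.Coprime r → ∃ j : ℕ, k ≡ W ^ j [MOD r ^ v]) ∧
      ∀ i j : ℕ, W ^ i ≡ W ^ j [MOD r ^ b] → i ≡ j [MOD (r ^ b).totient] := by
  have hv : v ≠ 0 := by omega
  have hcyc := ZMod.isCyclic_units_of_prime_pow r hr h2 v
  obtain ⟨ω, hω⟩ := hcyc.exists_generator
  have : NeZero (r ^ v) := ⟨pow_ne_zero _ hr.ne_zero⟩
  have : NeZero (r ^ b) := ⟨pow_ne_zero _ hr.ne_zero⟩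
  obtain ⟨W, hW⟩ : ∃ W : ℕ, ((W : ℕ) : ZMod (r ^ v)) = (ω : ZMod (r ^ v)) :=
    ⟨(ω : ZMod (r ^ v)).val, ZMod.natCast_zmod_val _⟩
  have hWc : W.Coprime (r ^ v) := by
    rw [← ZMod.isUnit_iff_coprime, hW]
    exact ω.isUnit
  have hWr : W.Coprime r := (Nat.coprime_pow_right_iff (Nat.pos_of_ne_zero hv) _ _).1 hWc
  have hωW : ω = ZMod.unitOfCoprime W hWc := by
    rw [Units.ext_iff, ZMod.coe_unitOfCoprime, hW]
  have hgen : ∀ k : ℕ, k.Coprime r → ∃ j : ℕ, k ≡ W ^ j [MOD r ^ v] := by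
    intro k hk
    have hkc : k.Coprime (r ^ v) := hk.pow_right v
    obtain ⟨j, hj⟩ := (mem_powers_iff_mem_zpowers (x := ω) (y := ZMod.unitOfCoprime k hkc)).2 (hω _)
    refine ⟨j, ?_⟩
    have h1 : ω ^ j = ZMod.unitOfCoprime k hkc := hj
    rw [Units.ext_iff, Units.val_pow_eq_pow_val, ZMod.coe_unitOfCoprime, ← hW, ← Nat.cast_pow,
      ZMod.natCast_eq_natCast_iff] at h1
    exact h1.symm
  refine ⟨W, hWr, hgen, fun i j hij => ?_⟩
  have hWb : W.Coprime (r ^ b) := hWr.pow_right b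
  have h3 : ∀ x : (ZMod (r ^ b))ˣ, x ∈ Subgroup.zpowers (ZMod.unitOfCoprime W hWb) := by
    intro x
    obtain ⟨k, hk⟩ : ∃ k : ℕ, ((k : ℕ) : ZMod (r ^ b)) = (x : ZMod (r ^ b)) :=
      ⟨(x : ZMod (r ^ b)).val, ZMod.natCast_zmod_val _⟩
    have hkc : k.Coprime (r ^ b) := by
      rw [← ZMod.isUnit_iff_coprime, hk]
      exact x.isUnit
    have hkr : k.Coprime r := (Nat.coprime_pow_right_iff (Nat.pos_of_ne_zero hb) _ _).1 hkc
    obtain ⟨j, hj⟩ := hgen k hkr
    refine ⟨(j : ℤ), ?_⟩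
    show ZMod.unitOfCoprime W hWb ^ ((j : ℕ) : ℤ) = x
    rw [zpow_natCast, Units.ext_iff, Units.val_pow_eq_pow_val, ZMod.coe_unitOfCoprime, ← hk, ← Nat.cast_pow,
      ZMod.natCast_eq_natCast_iff]
    exact (hj.of_dvd (pow_dvd_pow r hbv)).symm
  have h4 : orderOf (ZMod.unitOfCoprime W hWb) = (r ^ b).totient := by
    rw [orderOf_eq_card_of_forall_mem_zpowers h3, Nat.card_eq_fintype_card, ZMod.card_units_eq_totient]
  rw [← h4, ← pow_eq_pow_iff_modEq, Units.ext_iff, Units.val_pow_eq_pow_val, Units.val_pow_eq_pow_val,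
    ZMod.coe_unitOfCoprime, ← Nat.cast_pow, ← Nat.cast_pow, ZMod.natCast_eq_natCast_iff]
  exact hij

namespace IsLog

variable {r v b l h : ℕ} {g : ℕ → ZMod l}

theorem eq_mul (H : IsLog (r ^ v) l g) (hr : r.Prime) (h2 : r ≠ 2) (hb : b ≠ 0) (hbv : b ≤ v)
    (hφ : h * l = (r ^ b).totient) {w k a : ℕ} (hw : w.Coprime r) (hk : k.Coprime r)
    (ha : w ^ (h * a) ≡ k ^ h [MOD r ^ b]) : g k = a * g w := by
  obtain ⟨W, hW, hgen, htot⟩ := exists_gen hr h2 hb hbv
  obtain ⟨j0, hj0⟩ := hgen w hw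
  obtain ⟨j1, hj1⟩ := hgen k hk
  have hd : r ^ b ∣ r ^ v := pow_dvd_pow r hbv
  have h1 : W ^ (j0 * (h * a)) ≡ W ^ (j1 * h) [MOD r ^ b] := by
    rw [pow_mul, pow_mul W j1]
    exact (((hj0.of_dvd hd).pow _).symm.trans ha).trans ((hj1.of_dvd hd).pow _)
  have h3 := htot _ _ h1
  have hh : h ≠ 0 := by
    rintro rfl
    rw [zero_mul] at hφ
    exact (Nat.totient_pos.2 (pow_pos hr.pos b)).ne hφ
  have h4 : j0 * a ≡ j1 [MOD l] := by
    rw [← hφ] at h3
    refine Nat.ModEq.mul_left_cancel' hh ?_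
    rw [show h * (j0 * a) = j0 * (h * a) by ring, mul_comm h j1]
    exact h3
  have h5 : g w = j0 * g W := by
    rw [H.congr w _ (hw.pow_right v) hj0, H.pow (hW.pow_right v)]
  have h6 : g k = j1 * g W := by
    rw [H.congr k _ (hk.pow_right v) hj1, H.pow (hW.pow_right v)]
  have h7 : ((j0 * a : ℕ) : ZMod l) = (j1 : ZMod l) := (ZMod.natCast_eq_natCast_iff _ _ _).2 h4
  rw [h5, h6, ← h7]
  push_cast
  ring

theorem eq_zero_of_gen (H : IsLog (r ^ v) l g) (hr : r.Prime) (h2 : r ≠ 2) (hb : b ≠ 0) (hbv : b ≤ v)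
    (hl : l.Prime) (hφ : h * l = (r ^ b).totient) {w : ℕ} (hw : w.Coprime r)
    (hw1 : ¬ w ^ h ≡ 1 [MOD r ^ b]) (hg : g w = 0) {k : ℕ} (hk : k.Coprime r) : g k = 0 := by
  have := Fact.mk hl
  obtain ⟨W, hW, hgen, htot⟩ := exists_gen hr h2 hb hbv
  obtain ⟨j0, hj0⟩ := hgen w hw
  obtain ⟨j1, hj1⟩ := hgen k hk
  have hd : r ^ b ∣ r ^ v := pow_dvd_pow r hbv
  have h5 : g w = j0 * g W := by
    rw [H.congr w _ (hw.pow_right v) hj0, H.pow (hW.pow_right v)]
  have h6 : g k = j1 * g W := by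
    rw [H.congr k _ (hk.pow_right v) hj1, H.pow (hW.pow_right v)]
  rw [hg] at h5
  rcases mul_eq_zero.1 h5.symm with h7 | h7
  · exfalso
    rw [ZMod.natCast_eq_zero_iff] at h7
    obtain ⟨c, rfl⟩ := h7
    apply hw1
    refine ((hj0.of_dvd hd).pow h).trans ?_
    rw [← pow_mul, show l * c * h = (h * l) * c by ring, hφ, pow_mul]
    simpa using (Nat.ModEq.pow_totient (hW.pow_right b)).pow c
  · rw [h6, h7, mul_zero]

end IsLog

/-! ### Chinese remainder -/

theorem modEq_of_forall_prime {D x y : ℕ} (h : ∀ s k : ℕ, s.Prime → s ^ k ∣ D → x ≡ y [MOD s ^ k]) :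
    x ≡ y [MOD D] := by
  rw [Nat.modEq_iff_dvd, Int.natCast_dvd, Nat.dvd_iff_prime_pow_dvd_dvd]
  intro s k hs hk
  have h1 := h s k hs hk
  rwa [Nat.modEq_iff_dvd, Int.natCast_dvd] at h1

theorem coprime_pr {n : ℕ} (hn : n ≠ 0) (r : ℕ) :
    (r ^ n.factorization r).Coprime (n / r ^ n.factorization r) := by
  by_cases hr : r.Prime
  · exact (Nat.coprime_ordCompl hr hn).pow_left _
  · rw [Nat.factorization_eq_zero_of_not_prime n hr, pow_zero]
    exact Nat.coprime_one_left _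

theorem mul_co (n r : ℕ) : r ^ n.factorization r * (n / r ^ n.factorization r) = n :=
  Nat.ordProj_mul_ordCompl_eq_self n r

theorem pr_dvd_co {n r s : ℕ} (hr : r.Prime) (hs : s.Prime) (hrs : r ≠ s) :
    s ^ n.factorization s ∣ n / r ^ n.factorization r := by
  have h1 : s ^ n.factorization s ∣ r ^ n.factorization r * (n / r ^ n.factorization r) := by
    rw [mul_co]
    exact Nat.ordProj_dvd n s
  exact Nat.Coprime.dvd_of_dvd_mul_left
    (Nat.Coprime.pow _ _ ((Nat.coprime_primes hs hr).2 hrs.symm)) h1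

theorem coprime_n {n : ℕ} (r : ℕ) {x k : ℕ} (hk : k.Coprime (r ^ n.factorization r))
    (h1 : x ≡ k [MOD r ^ n.factorization r]) (h2 : x ≡ 1 [MOD n / r ^ n.factorization r]) : x.Coprime n := by
  rw [← mul_co n r]
  refine Nat.Coprime.mul_right ?_ ?_
  · rw [Nat.Coprime, h1.gcd_eq]; exact hk
  · rw [Nat.Coprime, h2.gcd_eq]; exact Nat.gcd_one_left _

theorem exists_crt {n : ℕ} (hn : n ≠ 0) (r k : ℕ) : ∃ x : ℕ, x ≡ k [MOD r ^ n.factorization r] ∧
    x ≡ 1 [MOD n / r ^ n.factorization r] := by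
  obtain ⟨x, h1, h2⟩ := Nat.chineseRemainder (coprime_pr hn r) k 1
  exact ⟨x, h1, h2⟩

theorem modEq_n {n : ℕ} (hn : n ≠ 0) (r : ℕ) {x y : ℕ} (h1 : x ≡ y [MOD r ^ n.factorization r])
    (h2 : x ≡ y [MOD n / r ^ n.factorization r]) : x ≡ y [MOD n] := by
  have := (Nat.modEq_and_modEq_iff_modEq_mul (coprime_pr hn r)).1 ⟨h1, h2⟩
  rwa [mul_co] at this

theorem IsLog.prod {n l : ℕ} {g : ℕ → ZMod l} (H : IsLog n l g) {ι : Type*} (S : Finset ι) (f : ι → ℕ)
    (hf : ∀ i ∈ S, (f i).Coprime n) : g (∏ i ∈ S, f i) = ∑ i ∈ S, g (f i) := by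
  classical
  induction S using Finset.induction_on with
  | empty => simpa using H.one
  | insert i S hi ih =>
    rw [Finset.prod_insert hi, Finset.sum_insert hi, H.mul _ _ (hf i (Finset.mem_insert_self _ _))
      (Nat.Coprime.prod_left fun j hj => hf j (Finset.mem_insert_of_mem hj)),
      ih fun j hj => hf j (Finset.mem_insert_of_mem hj)]

/-- decomposition of `F` into local components -/
theorem decomp {n l : ℕ} (hn : n ≠ 0) {F : ℕ → ZMod l} (H : IsLog n l F) :
    ∃ G : ℕ → ℕ → ZMod l, (∀ r, IsLog (r ^ n.factorization r) l (G r)) ∧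
      (∀ k : ℕ, k.Coprime n → F k = ∑ r ∈ n.primeFactors, G r k) ∧
      ∀ r k : ℕ, k.Coprime (r ^ n.factorization r) → ∃ x : ℕ, x.Coprime n ∧
        x ≡ 1 [MOD n / r ^ n.factorization r] ∧ G r k = F x := by
  choose e he1 he2 using fun r k => exists_crt hn r k
  have hec : ∀ r k : ℕ, k.Coprime (r ^ n.factorization r) → (e r k).Coprime n :=
    fun r k hk => coprime_n r hk (he1 r k) (he2 r k)
  refine ⟨fun r k => F (e r k), fun r => ⟨fun x y hx hy => ?_, fun x y hx hxy => ?_⟩, fun k hk => ?_,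
    fun r k hk => ⟨e r k, hec r k hk, he2 r k, rfl⟩⟩
  · show F (e r (x * y)) = F (e r x) + F (e r y)
    rw [← H.mul _ _ (hec r x hx) (hec r y hy)]
    refine H.congr _ _ (hec r _ (hx.mul_left hy)) (modEq_n hn r ?_ ?_)
    · exact (he1 r (x * y)).trans ((he1 r x).mul (he1 r y)).symm
    · exact (he2 r (x * y)).trans ((he2 r x).mul (he2 r y)).symm
  · show F (e r x) = F (e r y)
    refine H.congr _ _ (hec r x hx) (modEq_n hn r ?_ ?_)
    · exact ((he1 r x).trans hxy).trans (he1 r y).symm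
    · exact (he2 r x).trans (he2 r y).symm
  · have hkr : ∀ r, k.Coprime (r ^ n.factorization r) := fun r =>
      hk.coprime_dvd_right (Nat.ordProj_dvd n r)
    have h1 : F (∏ r ∈ n.primeFactors, e r k) = ∑ r ∈ n.primeFactors, F (e r k) :=
      H.prod _ _ fun r _ => hec r k (hkr r)
    rw [← h1]
    refine H.congr _ _ hk (modEq_of_forall_prime fun s j hs hj => ?_)
    have h2 : s ^ j ∣ s ^ n.factorization s :=
      pow_dvd_pow s ((hs.pow_dvd_iff_le_factorization hn).1 hj)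
    refine Nat.ModEq.of_dvd h2 ?_
    by_cases hsn : s ∈ n.primeFactors
    · rw [← ZMod.natCast_eq_natCast_iff, Nat.cast_prod, Finset.prod_eq_single s]
      · exact ((ZMod.natCast_eq_natCast_iff _ _ _).2 (he1 s k)).symm
      · intro r hr hrs
        have h3 : e r k ≡ 1 [MOD s ^ n.factorization s] :=
          (he2 r k).of_dvd (pr_dvd_co (Nat.prime_of_mem_primeFactors hr) hs hrs)
        simpa using (ZMod.natCast_eq_natCast_iff _ _ _).2 h3
      · exact fun h => absurd hsn h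
    · have h4 : n.factorization s = 0 := by
        rw [← Nat.support_factorization, Finsupp.mem_support_iff, not_not] at hsn
        exact hsn
      rw [h4, pow_zero]
      exact Nat.modEq_one

/-- the Frobenius relation -/
theorem frob_rel {n l p : ℕ} (hn : n ≠ 0) (hp : p.Prime) {F : ℕ → ZMod l}
    {G : ℕ → ℕ → ZMod l} (hG : ∀ r, IsLog (r ^ n.factorization r) l (G r))
    (hF : ∀ k : ℕ, k.Coprime n → F k = ∑ r ∈ n.primeFactors, G r k)
    (hp0 : ∀ k : ℕ, k.Coprime (p ^ n.factorization p) → G p k = 0)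
    (hfrob : ∀ x : ℕ, x.Coprime n → x ≡ p [MOD n / p ^ n.factorization p] → F x = 0) :
    ∑ r ∈ n.primeFactors.erase p, G r p = 0 := by
  obtain ⟨x, h1, h2⟩ := Nat.chineseRemainder (coprime_pr hn p) 1 p
  have hpc : p.Coprime (n / p ^ n.factorization p) := Nat.coprime_ordCompl hp hn
  have hx : x.Coprime n := by
    rw [← mul_co n p]
    refine Nat.Coprime.mul_right ?_ ?_
    · rw [Nat.Coprime, h1.gcd_eq]; exact Nat.gcd_one_left _
    · rw [Nat.Coprime, h2.gcd_eq]; exact hpc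
  have h3 : ∑ r ∈ n.primeFactors, G r x = 0 := by rw [← hF x hx, hfrob x hx h2]
  have h4 : ∑ r ∈ n.primeFactors.erase p, G r x = 0 := by
    by_cases hpn : p ∈ n.primeFactors
    · rw [← Finset.add_sum_erase _ _ hpn, hp0 x (hx.coprime_dvd_right (Nat.ordProj_dvd n p)),
        zero_add] at h3
      exact h3
    · rwa [Finset.erase_eq_of_notMem hpn]
  rw [← h4]
  refine Finset.sum_congr rfl fun r hr => ?_
  have hrp : r ≠ p := Finset.ne_of_mem_erase hr
  have hrpr : r.Prime := Nat.prime_of_mem_primeFactors (Finset.mem_of_mem_erase hr)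
  have h5 : x ≡ p [MOD r ^ n.factorization r] := h2.of_dvd (pr_dvd_co hp hrpr hrp.symm)
  exact ((hG r).congr _ _ (hx.coprime_dvd_right (Nat.ordProj_dvd n r)) h5).symm

/-! ### The checker -/

/-- data of one component -/
structure Cmp where
  /-- the prime -/
  r : ℕ
  /-- the exponent: `1`, or `2` for `r = l` -/
  b : ℕ
  /-- `φ(r ^ b) / l` -/
  h : ℕ
  /-- not an `l`-th power mod `r ^ b` -/
  w : ℕ
  /-- `log p` -/
  a : ℕ
  /-- `log q` -/
  c : ℕ

/-- the component data are correct -/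
def okC (p q l : ℕ) (x : Cmp) : Bool :=
  (x.r != 2) && (x.r != p) && (x.r != q) &&
  ((x.b == 1 && (x.r - 1) % l == 0) || (x.b == 2 && x.r == l)) &&
  (x.h * l == x.r ^ (x.b - 1) * (x.r - 1)) &&
  (Nat.gcd x.w x.r == 1) &&
  (x.w ^ x.h % x.r ^ x.b != 1 % x.r ^ x.b) &&
  (x.w ^ (x.h * x.a) % x.r ^ x.b == p ^ x.h % x.r ^ x.b) &&
  (x.w ^ (x.h * x.c) % x.r ^ x.b == q ^ x.h % x.r ^ x.b)

/-- all vectors killed by `p` and `q` have a bad support -/
def chkVec (l : ℕ) (bad : List ℕ) : List Cmp → ℕ → ℕ → ℕ → Bool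
  | [], A, B, P => (A % l != 0) || (B % l != 0) || (P == 1) || bad.any (fun d => P % d == 0)
  | x :: xs, A, B, P => chkVec l bad xs A B P &&
      (List.range (l - 1)).all fun t =>
        chkVec l bad xs (A + (t + 1) * x.a) (B + (t + 1) * x.c) (P * x.r ^ x.b)

theorem chkVec_sound {l : ℕ} {bad : List ℕ} (t : Cmp → ℕ) (ht : ∀ x, t x < l) :
    ∀ (xs : List Cmp) (A B P : ℕ), chkVec l bad xs A B P = true →
      l ∣ A + (xs.map fun x => t x * x.a).sum → l ∣ B + (xs.map fun x => t x * x.c).sum →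
      P * (xs.map fun x => if t x = 0 then 1 else x.r ^ x.b).prod = 1 ∨
        ∃ d ∈ bad, d ∣ P * (xs.map fun x => if t x = 0 then 1 else x.r ^ x.b).prod := by
  intro xs
  induction xs with
  | nil =>
    intro A B P h hA hB
    simp only [List.map_nil, List.sum_nil, add_zero, List.prod_nil, mul_one] at hA hB ⊢
    simp only [chkVec, Bool.or_eq_true, bne_iff_ne, ne_eq, beq_iff_eq, List.any_eq_true] at h
    rcases h with ((h | h) | h) | ⟨d, hd, h⟩
    · exact absurd (Nat.mod_eq_zero_of_dvd hA) h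
    · exact absurd (Nat.mod_eq_zero_of_dvd hB) h
    · exact Or.inl h
    · exact Or.inr ⟨d, hd, Nat.dvd_of_mod_eq_zero h⟩
  | cons x xs ih =>
    intro A B P h hA hB
    simp only [chkVec, Bool.and_eq_true, List.all_eq_true, List.mem_range] at h
    obtain ⟨h0, h1⟩ := h
    simp only [List.map_cons, List.sum_cons, List.prod_cons] at hA hB ⊢
    by_cases htx : t x = 0
    · simp only [htx, zero_mul, zero_add, if_true, one_mul] at hA hB ⊢
      exact ih A B P h0 hA hB
    · simp only [htx, if_false]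
      have h2 := h1 (t x - 1) (by have := ht x; omega)
      have h3 : t x - 1 + 1 = t x := by omega
      rw [h3] at h2
      have h4 := ih _ _ _ h2 (by rwa [add_assoc]) (by rwa [add_assoc])
      rwa [mul_assoc] at h4

/-- checker for one prime `l` -/
def chkL (fac : List (ℕ × ℕ)) (p q : ℕ) (bad : List ℕ) (l : ℕ) (xs : List Cmp) : Bool :=
  xs.all (fun x => okC p q l x && (fac.map Prod.fst).elem x.r) &&
  decide (xs.map Cmp.r).Nodup &&
  fac.all (fun e => (e.1 == 2) || (e.1 == p) || (e.1 == q) || (xs.map Cmp.r).elem e.1 ||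
    ((e.1 - 1) % l != 0 && (e.1 != l || e.2 ≤ 1))) &&
  chkVec l bad xs 0 0 1

/-- the odd primes up to `71` -/
def oddPrimes : List ℕ := [3, 5, 7, 11, 13, 17, 19, 23, 29, 31, 37, 41, 43, 47, 53, 59, 61, 67, 71]

/-- search of the data of a component -/
def mkC (p q l r b : ℕ) : Cmp :=
  let m := r ^ b
  let h := r ^ (b - 1) * (r - 1) / l
  let w := ((List.range m).find? (fun w => Nat.gcd w r == 1 && w ^ h % m != 1)).getD 1
  let z := w ^ h % m
  { r := r
    b := b
    h := h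
    w := w
    a := ((List.range l).find? (fun a => z ^ a % m == p ^ h % m)).getD 0
    c := ((List.range l).find? (fun a => z ^ a % m == q ^ h % m)).getD 0 }

/-- the components for `l` -/
def cmps (fac : List (ℕ × ℕ)) (p q l : ℕ) : List Cmp :=
  fac.filterMap fun e =>
    if e.1 == 2 || e.1 == p || e.1 == q then none
    else if (e.1 - 1) % l == 0 then some (mkC p q l e.1 1)
    else if e.1 == l && decide (2 ≤ e.2) then some (mkC p q l e.1 2)
    else none

/-- the checker -/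
def check (fac : List (ℕ × ℕ)) (p q : ℕ) (bad : List ℕ) : Bool :=
  (fac.map Prod.fst).all (fun r => (2 :: oddPrimes).elem r) &&
  decide (fac.map Prod.fst).Nodup &&
  oddPrimes.all fun l => chkL fac p q bad l (cmps fac p q l)

/-- the number with factorization `fac` -/
def val (fac : List (ℕ × ℕ)) : ℕ := (fac.map fun e => e.1 ^ e.2).prod

/-! ### Soundness -/

theorem prime_of_oddPrimes {r : ℕ} (h : r ∈ oddPrimes) : r.Prime := by
  simp only [oddPrimes, List.mem_cons, List.mem_nil_iff, or_false] at h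
  rcases h with rfl | rfl | rfl | rfl | rfl | rfl | rfl | rfl | rfl | rfl | rfl | rfl | rfl | rfl |
    rfl | rfl | rfl | rfl | rfl <;> norm_num

theorem mem_oddPrimes {l : ℕ} (hl : l.Prime) (h2 : l ≠ 2) (h : l ≤ 71) : l ∈ oddPrimes := by
  have h1 := hl.two_le
  interval_cases l <;> first
    | exact absurd rfl h2
    | decide
    | (exfalso; revert hl; norm_num)

theorem le_of_oddPrimes {l : ℕ} (h : l ∈ oddPrimes) : l ≤ 71 := by
  simp only [oddPrimes, List.mem_cons, List.mem_nil_iff, or_false] at h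
  omega

/-- the divisors of `val fac` -/
theorem exists_mem_fac {fac : List (ℕ × ℕ)} (hprime : ∀ e ∈ fac, e.1.Prime) {r : ℕ} (hr : r.Prime)
    (h : r ∣ val fac) : ∃ e ∈ fac, e.1 = r := by
  rw [val, Prime.dvd_prod_iff hr.prime] at h
  obtain ⟨a, ha, hra⟩ := h
  obtain ⟨e, he, rfl⟩ := List.mem_map.1 ha
  exact ⟨e, he, ((Nat.prime_dvd_prime_iff_eq hr (hprime e he)).1 (hr.dvd_of_dvd_pow hra)).symm⟩

theorem le_of_pow_dvd {fac : List (ℕ × ℕ)} (hprime : ∀ e ∈ fac, e.1.Prime) (hnd : (fac.map Prod.fst).Nodup)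
    {e : ℕ × ℕ} (he : e ∈ fac) {v : ℕ} (h : e.1 ^ v ∣ val fac) : v ≤ e.2 := by
  induction fac with
  | nil => simp at he
  | cons s fac ih =>
    rw [List.map_cons, List.nodup_cons] at hnd
    have hs := hprime s (List.mem_cons_self ..)
    have hval : val (s :: fac) = s.1 ^ s.2 * val fac := by simp [val]
    rw [hval] at h
    rcases List.mem_cons.1 he with rfl | he'
    · have hcop : (e.1 ^ v).Coprime (val fac) := by
        rw [val, Nat.coprime_list_prod_right_iff]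
        intro m hm
        obtain ⟨x, hx, rfl⟩ := List.mem_map.1 hm
        refine Nat.Coprime.pow _ _ ((Nat.coprime_primes hs (hprime x (List.mem_cons_of_mem _ hx))).2 ?_)
        rintro heq
        exact hnd.1 (List.mem_map.2 ⟨x, hx, heq.symm⟩)
      exact (Nat.pow_dvd_pow_iff_le_right hs.one_lt).1 (hcop.dvd_of_dvd_mul_right h)
    · have hne : e.1 ≠ s.1 := by
        rintro heq
        exact hnd.1 (List.mem_map.2 ⟨e, he', heq⟩)
      have hcop : (e.1 ^ v).Coprime (s.1 ^ s.2) :=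
        Nat.Coprime.pow _ _ ((Nat.coprime_primes (hprime e he) hs).2 hne)
      exact ih (fun x hx => hprime x (List.mem_cons_of_mem _ hx)) hnd.2 he' (hcop.dvd_of_dvd_mul_left h)

/-- a product over distinct primes divides `n` -/
theorem prod_dvd {n : ℕ} (f : Cmp → ℕ) : ∀ xs : List Cmp, (xs.map Cmp.r).Nodup →
    (∀ x ∈ xs, x.r.Prime) → (∀ x ∈ xs, f x ∣ n ∧ (f x = 1 ∨ f x = x.r ^ x.b)) → (xs.map f).prod ∣ n := by
  intro xs
  induction xs with
  | nil => intro _ _ _; simp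
  | cons x xs ih =>
    intro hnd hpr hf
    rw [List.map_cons, List.nodup_cons] at hnd
    rw [List.map_cons, List.prod_cons]
    refine Nat.Coprime.mul_dvd_of_dvd_of_dvd ?_ (hf x (List.mem_cons_self ..)).1
      (ih hnd.2 (fun y hy => hpr y (List.mem_cons_of_mem _ hy)) fun y hy => hf y (List.mem_cons_of_mem _ hy))
    rw [Nat.coprime_list_prod_right_iff]
    intro m hm
    obtain ⟨y, hy, rfl⟩ := List.mem_map.1 hm
    have hne : x.r ≠ y.r := fun h => hnd.1 (List.mem_map.2 ⟨y, hy, h.symm⟩)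
    rcases (hf x (List.mem_cons_self ..)).2 with h1 | h1 <;>
      rcases (hf y (List.mem_cons_of_mem _ hy)).2 with h2 | h2 <;> rw [h1, h2]
    · exact Nat.coprime_one_left _
    · exact Nat.coprime_one_left _
    · exact Nat.coprime_one_right _
    · exact Nat.Coprime.pow _ _ ((Nat.coprime_primes (hpr x (List.mem_cons_self ..))
        (hpr y (List.mem_cons_of_mem _ hy))).2 hne)

/-- unpacked data -/
theorem okC_spec {p q l : ℕ} {x : Cmp} (h : okC p q l x = true) :
    x.r ≠ 2 ∧ x.r ≠ p ∧ x.r ≠ q ∧ ((x.b = 1 ∧ l ∣ x.r - 1) ∨ (x.b = 2 ∧ x.r = l)) ∧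
      x.h * l = x.r ^ (x.b - 1) * (x.r - 1) ∧ x.w.Coprime x.r ∧ ¬ x.w ^ x.h ≡ 1 [MOD x.r ^ x.b] ∧
      x.w ^ (x.h * x.a) ≡ p ^ x.h [MOD x.r ^ x.b] ∧ x.w ^ (x.h * x.c) ≡ q ^ x.h [MOD x.r ^ x.b] := by
  simp only [okC, Bool.and_eq_true, Bool.or_eq_true, bne_iff_ne, ne_eq, beq_iff_eq] at h
  obtain ⟨⟨⟨⟨⟨⟨⟨⟨h1, h2⟩, h3⟩, h4⟩, h5⟩, h6⟩, h7⟩, h8⟩, h9⟩ := h
  refine ⟨h1, h2, h3, ?_, h5, h6, h7, h8, h9⟩
  rcases h4 with ⟨h4, h4'⟩ | h4
  · exact Or.inl ⟨h4, Nat.dvd_of_mod_eq_zero h4'⟩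
  · exact Or.inr h4

theorem comp_spec {p q l n : ℕ} {x : Cmp} (h : okC p q l x = true) (hr : x.r.Prime) (hp : p.Prime) (hq : q.Prime)
    (hl : l.Prime) {g : ℕ → ZMod l} (H : IsLog (x.r ^ n.factorization x.r) l g) :
    g p = x.a * g x.w ∧ g q = x.c * g x.w ∧ (g x.w = 0 → ∀ k : ℕ, k.Coprime (x.r ^ n.factorization x.r) → g k = 0) ∧
      (g x.w ≠ 0 → x.r ^ x.b ∣ n) := by
  obtain ⟨h2, hxp, hxq, hb, hφ, hw, hw1, ha, hc⟩ := okC_spec h
  have hb0 : x.b ≠ 0 := by omega
  have htot : x.h * l = (x.r ^ x.b).totient := by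
    rw [hφ, Nat.totient_prime_pow hr (Nat.pos_of_ne_zero hb0)]
  have hpc : p.Coprime x.r := (Nat.coprime_primes hp hr).2 (Ne.symm hxp)
  have hqc : q.Coprime x.r := (Nat.coprime_primes hq hr).2 (Ne.symm hxq)
  by_cases hbv : x.b ≤ n.factorization x.r
  · refine ⟨H.eq_mul hr h2 hb0 hbv htot hw hpc ha, H.eq_mul hr h2 hb0 hbv htot hw hqc hc, fun h0 k hk => ?_,
      fun _ => (pow_dvd_pow x.r hbv).trans (Nat.ordProj_dvd n x.r)⟩
    have hk' : k.Coprime x.r :=
      (Nat.coprime_pow_right_iff (by omega) _ _).1 hk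
    exact H.eq_zero_of_gen hr h2 hb0 hbv hl htot hw hw1 h0 hk'
  · have hz : ∀ k : ℕ, k.Coprime (x.r ^ n.factorization x.r) → g k = 0 := by
      intro k hk
      refine H.eq_zero hl ?_ hk
      rcases hb with ⟨hb, -⟩ | ⟨hb, hrl⟩
      · have : n.factorization x.r = 0 := by omega
        rw [this, pow_zero, Nat.totient_one]
        exact hl.one_lt.ne' ∘ Nat.dvd_one.1
      · have : n.factorization x.r = 0 ∨ n.factorization x.r = 1 := by omega
        rcases this with this | this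
        · rw [this, pow_zero, Nat.totient_one]
          exact hl.one_lt.ne' ∘ Nat.dvd_one.1
        · rw [this, pow_one, Nat.totient_prime hr, hrl]
          intro hd
          have := Nat.le_of_dvd (by have := hl.two_le; omega) hd
          have := hl.two_le
          omega
    have h0 := hz x.w (hw.pow_right _)
    refine ⟨?_, ?_, fun _ => hz, fun h => absurd h0 h⟩
    · rw [h0, mul_zero]; exact hz p (hpc.pow_right _)
    · rw [h0, mul_zero]; exact hz q (hqc.pow_right _)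

theorem sum_rel {l n p : ℕ} {G : ℕ → ℕ → ZMod l} (xs : List Cmp) (hnd : (xs.map Cmp.r).Nodup) (k : ℕ)
    (hxp : ∀ x ∈ xs, x.r ≠ p) (hout : ∀ r ∈ n.primeFactors.erase p, r ∉ xs.map Cmp.r → G r k = 0)
    (hin : ∀ x ∈ xs, x.r ∉ n.primeFactors → G x.r k = 0) :
    (xs.map fun x => G x.r k).sum = ∑ r ∈ n.primeFactors.erase p, G r k := by
  classical
  have h1 : (xs.map fun x => G x.r k).sum = ∑ r ∈ (xs.map Cmp.r).toFinset, G r k := by
    rw [List.sum_toFinset _ hnd, List.map_map]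
    rfl
  rw [h1]
  refine Finset.sum_congr_of_eq_on_inter ?_ ?_ ?_
  · intro r hr hr'
    obtain ⟨x, hx, rfl⟩ := List.mem_map.1 (List.mem_toFinset.1 hr)
    refine hin x hx fun hxn => hr' ?_
    exact Finset.mem_erase.2 ⟨hxp x hx, hxn⟩
  · intro r hr hr'
    exact hout r hr fun h => hr' (List.mem_toFinset.2 h)
  · intro r _ _
    rfl

theorem key {fac : List (ℕ × ℕ)} {p q : ℕ} {bad : List ℕ} {l n : ℕ} {xs : List Cmp}
    (hprime : ∀ e ∈ fac, e.1.Prime) (hnd : (fac.map Prod.fst).Nodup) (hp : p.Prime) (hq : q.Prime)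
    (hl : l.Prime) (hl2 : l ≠ 2) (hchk : chkL fac p q bad l xs = true) (hn : n ≠ 0) (hnv : n ∣ val fac)
    (hbad : ∀ d ∈ bad, ¬ d ∣ n) {F : ℕ → ZMod l} (H : IsLog n l F)
    (hp1 : ∀ x : ℕ, x.Coprime n → x ≡ 1 [MOD n / p ^ n.factorization p] → F x = 0)
    (hp2 : ∀ x : ℕ, x.Coprime n → x ≡ p [MOD n / p ^ n.factorization p] → F x = 0)
    (hq1 : ∀ x : ℕ, x.Coprime n → x ≡ 1 [MOD n / q ^ n.factorization q] → F x = 0)
    (hq2 : ∀ x : ℕ, x.Coprime n → x ≡ q [MOD n / q ^ n.factorization q] → F x = 0)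
    {k : ℕ} (hk : k.Coprime n) : F k = 0 := by
  have := Fact.mk hl
  simp only [chkL, Bool.and_eq_true, List.all_eq_true, Bool.or_eq_true, beq_iff_eq, bne_iff_ne, ne_eq,
    decide_eq_true_eq, List.elem_iff, decide_eq_true_eq] at hchk
  obtain ⟨⟨⟨hok, hnd'⟩, hcov⟩, hvec⟩ := hchk
  obtain ⟨G, hG, hF, hGF⟩ := decomp hn H
  have hGp : ∀ k : ℕ, k.Coprime (p ^ n.factorization p) → G p k = 0 := by
    intro k hk
    obtain ⟨x, hx, hx1, hx2⟩ := hGF p k hk
    rw [hx2, hp1 x hx hx1]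
  have hGq : ∀ k : ℕ, k.Coprime (q ^ n.factorization q) → G q k = 0 := by
    intro k hk
    obtain ⟨x, hx, hx1, hx2⟩ := hGF q k hk
    rw [hx2, hq1 x hx hx1]
  have hrelp := frob_rel hn hp hG hF hGp hp2
  have hrelq := frob_rel hn hq hG hF hGq hq2
  have hxr : ∀ x ∈ xs, x.r.Prime := by
    intro x hx
    obtain ⟨e, he, h⟩ := List.mem_map.1 (hok x hx).2
    rw [← h]
    exact hprime e he
  -- outside the components
  have hout : ∀ r ∈ n.primeFactors, r ∉ xs.map Cmp.r → ∀ k : ℕ, k.Coprime (r ^ n.factorization r) → G r k = 0 := by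
    intro r hr hrx k hk
    have hrp := Nat.prime_of_mem_primeFactors hr
    obtain ⟨e, he, rfl⟩ := exists_mem_fac hprime hrp ((Nat.dvd_of_mem_primeFactors hr).trans hnv)
    rcases hcov e he with (((h | h) | h) | h) | ⟨h, h'⟩
    · -- r = 2
      refine (hG e.1).eq_zero hl ?_ hk
      rw [h]
      rcases Nat.eq_zero_or_pos (n.factorization 2) with h0 | h0
      · rw [h0, pow_zero, Nat.totient_one]
        exact hl.one_lt.ne' ∘ Nat.dvd_one.1
      · rw [Nat.totient_prime_pow Nat.prime_two h0, show 2 - 1 = 1 from rfl, mul_one]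
        intro hd
        exact hl2 ((Nat.prime_dvd_prime_iff_eq hl Nat.prime_two).1 (hl.dvd_of_dvd_pow hd))
    · subst h; exact hGp k hk
    · subst h; exact hGq k hk
    · exact absurd h hrx
    · refine (hG e.1).eq_zero hl ?_ hk
      rcases Nat.eq_zero_or_pos (n.factorization e.1) with h0 | h0
      · rw [h0, pow_zero, Nat.totient_one]
        exact hl.one_lt.ne' ∘ Nat.dvd_one.1
      · rw [Nat.totient_prime_pow hrp h0]
        intro hd
        rcases hl.dvd_mul.1 hd with hd | hd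
        · rcases Nat.eq_zero_or_pos (n.factorization e.1 - 1) with h1 | h1
          · rw [h1, pow_zero] at hd
            exact hl.one_lt.ne' (Nat.dvd_one.1 hd)
          · have h2 : l = e.1 := (Nat.prime_dvd_prime_iff_eq hl hrp).1 (hl.dvd_of_dvd_pow hd)
            have h3 : n.factorization e.1 ≤ e.2 :=
              le_of_pow_dvd hprime hnd he ((Nat.ordProj_dvd n e.1).trans hnv)
            rcases h' with h' | h'
            · exact h' h2.symm
            · omega
        · exact h (Nat.mod_eq_zero_of_dvd hd)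
  have hsp : ∀ x ∈ xs, _ := fun x hx => comp_spec (n := n) (hok x hx).1 (hxr x hx) hp hq hl (hG x.r)
  have hin : ∀ x ∈ xs, x.r ∉ n.primeFactors → ∀ k : ℕ, G x.r k = 0 := by
    intro x hx hxn k
    have h4 : n.factorization x.r = 0 := by
      rw [← Nat.support_factorization, Finsupp.mem_support_iff, not_not] at hxn
      exact hxn
    have h5 := hG x.r
    rw [h4, pow_zero] at h5
    exact h5.eq_zero_of_modEq_one Nat.modEq_one
  have hrel1 : (xs.map fun x => G x.r p).sum = 0 := by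
    rw [← hrelp]
    refine sum_rel xs hnd' p (fun x hx => (okC_spec (hok x hx).1).2.1) (fun r hr hrx => ?_)
      fun x hx hxn => hin x hx hxn p
    refine hout r (Finset.mem_of_mem_erase hr) hrx p ?_
    exact ((Nat.coprime_primes hp (Nat.prime_of_mem_primeFactors (Finset.mem_of_mem_erase hr))).2
      (Finset.ne_of_mem_erase hr).symm).pow_right _
  have hrel2 : (xs.map fun x => G x.r q).sum = 0 := by
    rw [← hrelq]
    refine sum_rel xs hnd' q (fun x hx => (okC_spec (hok x hx).1).2.2.1) (fun r hr hrx => ?_)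
      fun x hx hxn => hin x hx hxn q
    refine hout r (Finset.mem_of_mem_erase hr) hrx q ?_
    exact ((Nat.coprime_primes hq (Nat.prime_of_mem_primeFactors (Finset.mem_of_mem_erase hr))).2
      (Finset.ne_of_mem_erase hr).symm).pow_right _
  -- the vector
  have hvec' := chkVec_sound (fun x : Cmp => (G x.r x.w).val) (fun x => ZMod.val_lt _) xs 0 0 1 hvec
    (by
      rw [zero_add, ← ZMod.natCast_eq_zero_iff, ← hrel1, Nat.cast_list_sum, List.map_map]
      refine congrArg List.sum (List.map_congr_left fun x hx => ?_)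
      simp only [Function.comp_apply, Nat.cast_mul, ZMod.natCast_val, ZMod.cast_id', id_eq]
      rw [(hsp x hx).1, mul_comm])
    (by
      rw [zero_add, ← ZMod.natCast_eq_zero_iff, ← hrel2, Nat.cast_list_sum, List.map_map]
      refine congrArg List.sum (List.map_congr_left fun x hx => ?_)
      simp only [Function.comp_apply, Nat.cast_mul, ZMod.natCast_val, ZMod.cast_id', id_eq]
      rw [(hsp x hx).2.1, mul_comm])
  have hdvd : (xs.map fun x => if (G x.r x.w).val = 0 then 1 else x.r ^ x.b).prod ∣ n := by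
    refine prod_dvd _ xs hnd' hxr fun x hx => ?_
    by_cases h0 : (G x.r x.w).val = 0
    · simp [h0]
    · simp only [h0, if_false]
      refine ⟨(hsp x hx).2.2.2 fun h => h0 ?_, Or.inr trivial⟩
      rw [h, ZMod.val_zero]
  rw [one_mul] at hvec'
  have hprod1 : (xs.map fun x => if (G x.r x.w).val = 0 then 1 else x.r ^ x.b).prod = 1 := by
    rcases hvec' with h | ⟨d, hd, h⟩
    · exact h
    · exact absurd (h.trans hdvd) (hbad d hd)
  have hall : ∀ x ∈ xs, G x.r x.w = 0 := by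
    intro x hx
    by_contra h0
    have h1 : x.r ^ x.b ∣ (xs.map fun x => if (G x.r x.w).val = 0 then 1 else x.r ^ x.b).prod := by
      refine List.dvd_prod (List.mem_map.2 ⟨x, hx, ?_⟩)
      have : (G x.r x.w).val ≠ 0 := fun h => h0 ((ZMod.val_eq_zero _).1 h)
      simp [this]
    rw [hprod1, Nat.dvd_one] at h1
    have hb0 : x.b ≠ 0 := by
      have := (okC_spec (hok x hx).1).2.2.2.1
      omega
    exact (Nat.one_lt_pow hb0 (hxr x hx).one_lt).ne' h1
  rw [hF k hk]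
  refine Finset.sum_eq_zero fun r hr => ?_
  have hkr : k.Coprime (r ^ n.factorization r) := hk.coprime_dvd_right (Nat.ordProj_dvd n r)
  by_cases hrx : r ∈ xs.map Cmp.r
  · obtain ⟨x, hx, rfl⟩ := List.mem_map.1 hrx
    exact (hsp x hx).2.2.1 (hall x hx) k hkr
  · exact hout r hr hrx k hkr

theorem gen0_of_check {fac : List (ℕ × ℕ)} {p q : ℕ} {bad : List ℕ} (hp : p.Prime) (hq : q.Prime)
    (hchk : check fac p q bad = true) {n : ℕ} (hnv : n ∣ val fac) (hbad : ∀ d ∈ bad, ¬ d ∣ n) : Gen0' n p q := by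
  simp only [check, Bool.and_eq_true, List.all_eq_true, List.elem_iff, decide_eq_true_eq] at hchk
  obtain ⟨⟨hpr, hnd⟩, hall⟩ := hchk
  have hprime : ∀ e ∈ fac, e.1.Prime := by
    intro e he
    have := hpr e.1 (List.mem_map.2 ⟨e, he, rfl⟩)
    rcases List.mem_cons.1 this with h | h
    · rw [h]; exact Nat.prime_two
    · exact prime_of_oddPrimes h
  have hle : ∀ e ∈ fac, e.1 ≤ 71 := by
    intro e he
    have := hpr e.1 (List.mem_map.2 ⟨e, he, rfl⟩)
    rcases List.mem_cons.1 this with h | h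
    · omega
    · exact le_of_oddPrimes h
  have hval : val fac ≠ 0 := by
    rw [val, Ne, List.prod_eq_zero_iff]
    intro h
    obtain ⟨e, he, h⟩ := List.mem_map.1 h
    exact (pow_pos (hprime e he).pos e.2).ne' h
  have hn : n ≠ 0 := by
    rintro rfl
    exact hval (zero_dvd_iff.1 hnv)
  have : NeZero n := ⟨hn⟩
  intro H h1 h2 h3 h4
  by_contra hcon
  push Not at hcon
  obtain ⟨l, hl, hl2, f, hmul, ⟨u, hu⟩, hf⟩ := exists_hom H hcon
  -- the function on numbers
  obtain ⟨F, hFdef⟩ : ∃ F : ℕ → ZMod l, ∀ (x : ℕ) (hx : x.Coprime n), F x = f (ZMod.unitOfCoprime x hx) := by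
    classical
    exact ⟨fun x => if hx : x.Coprime n then f (ZMod.unitOfCoprime x hx) else 0, fun x hx => dif_pos hx⟩
  have HF : IsLog n l F := by
    refine ⟨fun x y hx hy => ?_, fun x y hx hxy => ?_⟩
    · rw [hFdef _ (hx.mul_left hy), hFdef _ hx, hFdef _ hy, ← hmul]
      congr 1
      rw [Units.ext_iff, Units.val_mul, ZMod.coe_unitOfCoprime, ZMod.coe_unitOfCoprime,
        ZMod.coe_unitOfCoprime, Nat.cast_mul]
    · have hy : y.Coprime n := by rw [Nat.Coprime, ← hxy.gcd_eq]; exact hx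
      rw [hFdef _ hx, hFdef _ hy, (unit_eq_iff hx hy).2 hxy]
  have hmem : ∀ (m j : ℕ), m ∣ n → (∀ u : (ZMod n)ˣ, (u : ZMod n).val ≡ j [MOD m] → u ∈ H) →
      ∀ x : ℕ, x.Coprime n → x ≡ j [MOD m] → F x = 0 := by
    intro m j hm hH x hx hxj
    rw [hFdef _ hx]
    refine hf _ (hH _ ?_)
    rw [ZMod.coe_unitOfCoprime, ZMod.val_natCast]
    exact (((Nat.mod_modEq x n).of_dvd hm)).trans hxj
  have hdp : n / p ^ n.factorization p ∣ n := Nat.div_dvd_of_dvd (Nat.ordProj_dvd n p)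
  have hdq : n / q ^ n.factorization q ∣ n := Nat.div_dvd_of_dvd (Nat.ordProj_dvd n q)
  -- a value which is not zero
  obtain ⟨k, hk⟩ : ∃ k : ℕ, ((k : ℕ) : ZMod n) = (u : ZMod n) := ⟨(u : ZMod n).val, ZMod.natCast_zmod_val _⟩
  have hkc : k.Coprime n := by
    rw [← ZMod.isUnit_iff_coprime, hk]
    exact u.isUnit
  have hFk : F k ≠ 0 := by
    rw [hFdef _ hkc]
    have : ZMod.unitOfCoprime k hkc = u := by
      rw [Units.ext_iff, ZMod.coe_unitOfCoprime, hk]
    rwa [this]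
  -- `l` is small
  have hl71 : l ≤ 71 := by
    obtain ⟨G, hG, hF, -⟩ := decomp hn HF
    rw [hF k hkc] at hFk
    obtain ⟨r, hr, hrk⟩ := Finset.exists_ne_zero_of_sum_ne_zero hFk
    have hrp := Nat.prime_of_mem_primeFactors hr
    have hrn := Nat.dvd_of_mem_primeFactors hr
    obtain ⟨e, he, rfl⟩ := exists_mem_fac hprime hrp (hrn.trans hnv)
    have hd : l ∣ (e.1 ^ n.factorization e.1).totient := by
      by_contra hd
      exact hrk ((hG e.1).eq_zero hl hd (hkc.coprime_dvd_right (Nat.ordProj_dvd n e.1)))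
    rw [Nat.totient_prime_pow hrp (hrp.factorization_pos_of_dvd hn hrn)] at hd
    have h71 := hle e he
    rcases hl.dvd_mul.1 hd with hd | hd
    · have := Nat.le_of_dvd hrp.pos (hl.dvd_of_dvd_pow hd)
      omega
    · have := Nat.le_of_dvd (by have := hrp.two_le; omega) hd
      omega
  exact hFk (key hprime hnd hp hq hl hl2 (hall l (mem_oddPrimes hl hl2 hl71)) hn hnv hbad HF
    (hmem _ _ hdp h1) (hmem _ _ hdp h2) (hmem _ _ hdq h3) (hmem _ _ hdq h4) hkc)

end Cfsg.Agent.H494.B0R
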