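import Cfsg.Agent.H438.Fpr.LemB
import Cfsg.Agent.Characters.CNBasic

/-!
# Tools for the nonexistence of elements of given orders (helper494)

* `part_mul` : in a group `X` with `Nice p X`, `|X|_q` divides `(p - 1) |C_X(x)|`, `x` of order `p`
* `no_sq` : the argument with the Sylow subgroup of `C(y)` and a central element of a Sylow subgroup of `G`
* `exists_full_mem` : a `p`-subgroup of index at most `p` in a Sylow subgroup contains a central element of order `p`
-/

set_option autoImplicit false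

namespace Cfsg.Agent.H494.B0R.OrdTool

open Subgroup Cfsg.Agent.H995.CopEngine Cfsg.Agent.H291.SolNorm Cfsg.Agent.H438.Fpr.LemB
open scoped Pointwise

universe u

/-- the Frattini argument, in `X` -/
theorem part_mul {X : Type u} [Group X] [Finite X] {p : ℕ} (hp : p.Prime) (h2 : ¬ p ^ 2 ∣ Nat.card X) {x : X}
    (hx : orderOf x = p) (hN : Nice p X) {q k : ℕ} (hq : q.Prime) (hqp : q ≠ p)
    (hc : ∀ i, 1 ≤ i → q ^ i ∣ Nat.card X → ¬ p ∣ q ^ i - 1) (hk : q ^ k ∣ Nat.card X) :
    q ^ k ∣ (p - 1) * Nat.card (centralizer ({x} : Set X)) := by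
  have hpf := Fact.mk hp
  obtain ⟨K, hK, hpK, hPK⟩ := hN
  have hidx : ¬ p ∣ (zpowers x).index := by
    intro h1
    apply h2
    rw [← (zpowers x).card_mul_index, Nat.card_zpowers, hx, pow_two]
    exact Nat.mul_dvd_mul_left p h1
  have hpg : IsPGroup p (zpowers x) := IsPGroup.of_card (n := 1) (by rw [Nat.card_zpowers, hx, pow_one])
  let P : Sylow p X := hpg.toSylow hidx
  have hPx : (P : Subgroup X) = zpowers x := rfl
  have hT := hPK P
  set T : Subgroup X := (P : Subgroup X) ⊔ K with hTdef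
  have hPT : (P : Subgroup X) ≤ T := le_sup_left
  set N : Subgroup X := normalizer ((P : Subgroup X) : Set X) with hNdef
  -- Frattini
  have hF : N ⊔ K = ⊤ := by
    have h3 := Sylow.normalizer_sup_eq_top (P.subtype hPT)
    have h4 : ((P.subtype hPT : Sylow p T) : Subgroup T).map T.subtype = (P : Subgroup X) := by
      rw [Sylow.coe_subtype, subgroupOf_map_subtype, inf_eq_left.2 hPT]
    rw [h4] at h3
    rw [eq_top_iff, ← h3]
    refine sup_le le_sup_left ?_
    rw [hTdef]
    exact sup_le (le_trans le_normalizer le_sup_left) le_sup_right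
  -- the orders
  have e1 : K.index = K.relIndex N := by
    rw [← relIndex_top_right, ← hF, sup_comm, relIndex_sup_left]
  have e2 : Nat.card X * Nat.card ↥(K ⊓ N) = Nat.card K * Nat.card N := by
    have h5 : Nat.card ↥(K ⊓ N) * K.relIndex N = Nat.card N := by
      have h6 := (K.subgroupOf N).card_mul_index
      rw [← Subgroup.relIndex] at h6
      rw [← h6]
      congr 1
      rw [← card_map_of_injective N.subtype_injective, subgroupOf_map_subtype]
    rw [← K.card_mul_index, e1, ← h5]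
    ring
  -- `K ∩ N` centralizes `x`
  have e3 : K ⊓ centralizer ({x} : Set X) ≤ K ⊓ N := by
    refine inf_le_inf_left _ fun g hg => ?_
    have h3 : centralizer ((zpowers x : Subgroup X) : Set X) ≤ N := by
      rw [hNdef, hPx]
      exact centralizer_le_normalizer _
    refine h3 ?_
    rw [mem_centralizer_iff]
    rintro _ ⟨j, rfl⟩
    exact ((show Commute g x from mem_centralizer_singleton_iff.1 hg).zpow_right j).eq.symm
  have hx1 : x ^ p = 1 := by rw [← hx, pow_orderOf_eq_one]
  -- the `q`-parts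
  have hqf := Fact.mk hq
  have v1 : ∀ j, q ^ j ∣ Nat.card K → q ^ j ∣ Nat.card ↥(K ⊓ N) := fun j hj => by
    have h7 := pow_dvd_cent hp K hpK hx1 hq hqp hj (fun i hi h => hc i hi (h.trans (card_subgroup_dvd_card K)))
    exact h7.trans (card_dvd_of_le e3)
  have c0 : ∀ H : Subgroup X, Nat.card H ≠ 0 := fun H => Nat.card_pos.ne'
  have hX0 : Nat.card X ≠ 0 := Nat.card_pos.ne'
  have v2 : q ^ k ∣ Nat.card N := by
    rw [hq.pow_dvd_iff_le_factorization (c0 _)]
    have h8 := congrArg (fun n => n.factorization q) e2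
    simp only [Nat.factorization_mul hX0 (c0 _), Nat.factorization_mul (c0 K) (c0 N), Finsupp.add_apply] at h8
    have h9 := (hq.pow_dvd_iff_le_factorization hX0).1 hk
    have h10 := (hq.pow_dvd_iff_le_factorization (c0 (K ⊓ N))).1 (v1 _ (Nat.ordProj_dvd (Nat.card K) q))
    omega
  -- the centralizer
  have h11 := relIndex_centralizer_dvd hp (zpowers x) (by rw [Nat.card_zpowers, hx])
  have hle : centralizer (zpowers x : Set X) ≤ normalizer (zpowers x : Set X) := centralizer_le_normalizer _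
  have h12 := Subgroup.relIndex_mul_relIndex ⊥ (centralizer (zpowers x : Set X)) (normalizer (zpowers x : Set X)) bot_le hle
  rw [relIndex_bot_left, relIndex_bot_left] at h12
  have h13 : centralizer (zpowers x : Set X) ≤ centralizer ({x} : Set X) := by
    intro g hg
    rw [mem_centralizer_singleton_iff]
    exact (mem_centralizer_iff.1 hg x (mem_zpowers x)).symm
  refine v2.trans ?_
  rw [hNdef, hPx, ← h12, mul_comm]
  exact Nat.mul_dvd_mul h11 (card_dvd_of_le h13)

/-- the version inside `G` -/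
theorem part_mul' {G : Type u} [Group G] [Finite G] {p : ℕ} (hp : p.Prime) {u x : G} (hux : x * u = u * x)
    (h2 : ¬ p ^ 2 ∣ Nat.card ↥(centralizer ({u} : Set G))) (hx : orderOf x = p)
    (hN : Nice p ↥(centralizer ({u} : Set G))) {q k : ℕ} (hq : q.Prime) (hqp : q ≠ p)
    (hc : ∀ i, 1 ≤ i → q ^ i ∣ Nat.card ↥(centralizer ({u} : Set G)) → ¬ p ∣ q ^ i - 1)
    (hk : q ^ k ∣ Nat.card ↥(centralizer ({u} : Set G))) :
    q ^ k ∣ (p - 1) * Nat.card (centralizer ({x} : Set G)) := by
  have hxX : x ∈ centralizer ({u} : Set G) := mem_centralizer_singleton_iff.2 hux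
  refine (part_mul hp h2 (x := (⟨x, hxX⟩ : ↥(centralizer ({u} : Set G)))) (by rw [Subgroup.orderOf_mk, hx]) hN hq hqp hc
    hk).trans (Nat.mul_dvd_mul_left _ ?_)
  rw [← card_map_of_injective (centralizer ({u} : Set G)).subtype_injective]
  refine card_dvd_of_le ?_
  rintro _ ⟨c, hc', rfl⟩
  exact mem_centralizer_singleton_iff.2 (congrArg Subtype.val (mem_centralizer_singleton_iff.1 hc'))

section general

variable {G : Type u} [Group G] [Finite G] {p : ℕ} [hp : Fact p.Prime]

/-- a central element of order `p` -/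
theorem exists_order_p (T D : Subgroup G) (hT : IsPGroup p T) (hD : IsPGroup p D) (hD1 : D ≠ ⊥)
    (hn : ∀ t ∈ T, ∀ d ∈ D, t * d * t⁻¹ ∈ D) : ∃ w ∈ D, orderOf w = p ∧ ∀ t ∈ T, t * w = w * t := by
  obtain ⟨w, hw, hw1, hc⟩ := Characters.CNBasic.exists_mem_center_of_normal T hT D hD hD1 hn
  obtain ⟨k, hk⟩ := IsPGroup.iff_orderOf.1 hD ⟨w, hw⟩
  rw [Subgroup.orderOf_mk] at hk
  have hd : p ∣ orderOf w := by
    rw [hk]
    rcases Nat.eq_zero_or_pos k with h | h
    · rw [h, pow_zero, orderOf_eq_one_iff] at hk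
      exact absurd hk hw1
    · exact dvd_pow_self p h.ne'
  refine ⟨w ^ (orderOf w / p), pow_mem hw _, orderOf_pow_orderOf_div (orderOf_pos w).ne' hd, fun t ht => ?_⟩
  exact ((show Commute t w from hc t ht).pow_right _).eq

/-- **The argument.** -/
theorem no_sq (P : Sylow p G) {z : G} (hzP : z ∈ (P : Subgroup G)) (hzc : ∀ s ∈ (P : Subgroup G), s * z = z * s)
    (hzo : orderOf z = p) {U : Subgroup G} (hU : U ≤ (P : Subgroup G)) (hzU : z ∉ U) {w : G} (hw : w ∈ U)
    (hw1 : w ^ p ≠ 1) (hne : Nat.card (P : Subgroup G) ≠ p * Nat.card U)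
    (hcard : ∀ u ∈ U, orderOf u = p → ¬ p * (p * Nat.card U) ∣ Nat.card (centralizer ({u} : Set G))) : False := by
  have hPp := P.isPGroup'
  -- `T = U ⟨z⟩`
  set T : Subgroup G := U ⊔ zpowers z with hT
  have hTP : T ≤ (P : Subgroup G) := sup_le hU (by rwa [zpowers_le])
  have hUn : ∀ u ∈ U, ∀ i : ℤ, u * z ^ i = z ^ i * u := fun u hu i =>
    ((show Commute u z from hzc u (hU hu)).zpow_right i).eq
  have hTm : ∀ t ∈ T, ∃ u ∈ U, ∃ i : ℤ, t = u * z ^ i := by
    intro t ht
    refine Subgroup.closure_induction (p := fun t _ => ∃ u ∈ U, ∃ i : ℤ, t = u * z ^ i)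
      (k := (U : Set G) ∪ (zpowers z : Set G)) ?_ ⟨1, one_mem _, 0, by simp⟩ ?_ ?_ (by
        rw [Subgroup.closure_union, Subgroup.closure_eq, Subgroup.closure_eq]
        exact ht)
    · rintro t (h | ⟨i, h⟩)
      · exact ⟨t, h, 0, by simp⟩
      · exact ⟨1, one_mem _, i, by rw [one_mul]; exact h.symm⟩
    · rintro _ _ - - ⟨u, hu, i, rfl⟩ ⟨v, hv, j, rfl⟩
      refine ⟨u * v, mul_mem hu hv, i + j, ?_⟩
      calc u * z ^ i * (v * z ^ j) = u * (z ^ i * v) * z ^ j := by group
        _ = u * (v * z ^ i) * z ^ j := by rw [hUn v hv i]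
        _ = u * v * z ^ (i + j) := by rw [zpow_add]; group
    · rintro _ - ⟨u, hu, i, rfl⟩
      refine ⟨u⁻¹, inv_mem hu, -i, ?_⟩
      rw [mul_inv_rev, zpow_neg, ← zpow_neg, ← hUn _ (inv_mem hu) (-i)]
  have hdisj : Disjoint U (zpowers z) := by
    rw [disjoint_iff, eq_bot_iff]
    intro g hg
    rw [mem_inf] at hg
    rw [mem_bot]
    by_contra hg1
    apply hzU
    have h1 : zpowers z = zpowers g := by
      refine (eq_of_le_of_card_ge (by rw [zpowers_le]; exact hg.2) ?_).symm
      rw [Nat.card_zpowers, Nat.card_zpowers, hzo]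
      have h2 : orderOf g ∣ p := by
        have h3 := Subgroup.orderOf_dvd_natCard (zpowers z) hg.2
        rwa [Nat.card_zpowers, hzo] at h3
      rcases (Nat.dvd_prime hp.out).1 h2 with h4 | h4
      · exact absurd (orderOf_eq_one_iff.1 h4) hg1
      · exact h4.ge
    have h5 : zpowers g ≤ U := by rw [zpowers_le]; exact hg.1
    exact h5 (h1 ▸ mem_zpowers z)
  have hTc : Nat.card T = p * Nat.card U := by
    have hinj : Function.Injective (fun x : ↥U × ↥(zpowers z) => (x.1 : G) * x.2) := by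
      rintro ⟨a, b⟩ ⟨c, d⟩ h
      have h1 : (a : G) * b = c * d := h
      have h2 : (c : G)⁻¹ * a = d * (b : G)⁻¹ := by
        rw [inv_mul_eq_iff_eq_mul, ← mul_assoc, ← h1, mul_inv_cancel_right]
      have h3 : (c : G)⁻¹ * a ∈ U ⊓ zpowers z :=
        mem_inf.2 ⟨U.mul_mem (U.inv_mem c.2) a.2, by rw [h2]; exact (zpowers z).mul_mem d.2 ((zpowers z).inv_mem b.2)⟩
      rw [disjoint_iff.1 hdisj, mem_bot] at h3
      have h4 : (a : G) = c := (inv_mul_eq_one.1 h3).symm
      rw [h4] at h1
      exact Prod.ext (Subtype.ext h4) (Subtype.ext (mul_left_cancel h1))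
    have hr : Set.range (fun x : ↥U × ↥(zpowers z) => (x.1 : G) * x.2) = (T : Set G) := by
      ext t
      constructor
      · rintro ⟨⟨a, b⟩, rfl⟩
        exact mul_mem (mem_sup_left a.2) (mem_sup_right b.2)
      · intro ht
        obtain ⟨u, hu, i, rfl⟩ := hTm t ht
        exact ⟨(⟨u, hu⟩, ⟨z ^ i, zpow_mem (mem_zpowers z) i⟩), rfl⟩
    have h1 := Nat.card_congr (Equiv.ofInjective _ hinj)
    rw [hr, Nat.card_prod, Nat.card_zpowers, hzo, mul_comm] at h1
    exact h1.symm
  -- the normalizer of `T` in `P`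
  have hlt : T.subgroupOf (P : Subgroup G) < ⊤ := by
    rw [lt_top_iff_ne_top]
    intro h
    rw [subgroupOf_eq_top] at h
    apply hne
    rw [← hTc, le_antisymm hTP h]
  have hnil : Group.IsNilpotent (P : Subgroup G) := hPp.isNilpotent
  have hN := Group.normalizerCondition_of_isNilpotent (G := ↥(P : Subgroup G)) _ hlt
  set Q : Subgroup G := (normalizer ((T.subgroupOf (P : Subgroup G) : Subgroup ↥(P : Subgroup G)) : Set ↥(P : Subgroup G))).map
    (P : Subgroup G).subtype with hQ
  have hQP : Q ≤ (P : Subgroup G) := map_subtype_le _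
  have hQp : IsPGroup p Q := hPp.to_le hQP
  have hTQ : T < Q := by
    have h1 : (T.subgroupOf (P : Subgroup G)).map (P : Subgroup G).subtype = T := by
      rw [subgroupOf_map_subtype, inf_eq_left.2 hTP]
    rw [← h1, hQ]
    exact (map_lt_map_iff_of_injective (P : Subgroup G).subtype_injective).2 hN
  have hQn : ∀ g ∈ Q, ∀ t ∈ T, g * t * g⁻¹ ∈ T := by
    rintro _ ⟨g, hg, rfl⟩ t ht
    have h1 := (mem_normalizer_iff.1 hg ⟨t, hTP ht⟩).1 (mem_subgroupOf.2 ht)
    exact mem_subgroupOf.1 h1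
  -- the subgroup of the `p`-th powers
  set V : Subgroup G := closure {g | ∃ t ∈ T, g = t ^ p} with hV
  have hVU : V ≤ U := by
    rw [hV, closure_le]
    rintro _ ⟨t, ht, rfl⟩
    obtain ⟨u, hu, i, rfl⟩ := hTm t ht
    have h1 : (u * z ^ i) ^ p = u ^ p * (z ^ i) ^ p := (show Commute u (z ^ i) from hUn u hu i).mul_pow p
    have h2 : (z ^ i) ^ p = 1 := by
      rw [← zpow_natCast, ← zpow_mul, mul_comm, zpow_mul, zpow_natCast, ← hzo, pow_orderOf_eq_one, one_zpow]
    rw [h1, h2, mul_one]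
    exact pow_mem hu p
  have hV1 : V ≠ ⊥ := by
    intro h
    apply hw1
    have h1 : w ^ p ∈ V := subset_closure ⟨w, mem_sup_left hw, rfl⟩
    rwa [h, mem_bot] at h1
  have hVn : ∀ g ∈ Q, ∀ v ∈ V, g * v * g⁻¹ ∈ V := by
    intro g hg v hv
    refine Subgroup.closure_induction (p := fun v _ => g * v * g⁻¹ ∈ V) ?_ ?_ ?_ ?_ hv
    · rintro _ ⟨t, ht, rfl⟩
      refine subset_closure ⟨g * t * g⁻¹, hQn g hg t ht, ?_⟩
      rw [conj_pow]
    · simp
    · intro a b _ _ ha hb
      rw [show g * (a * b) * g⁻¹ = (g * a * g⁻¹) * (g * b * g⁻¹) by group]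
      exact mul_mem ha hb
    · intro a _ ha
      rw [show g * a⁻¹ * g⁻¹ = (g * a * g⁻¹)⁻¹ by group]
      exact inv_mem ha
  have hVp : IsPGroup p V := hPp.to_le (hVU.trans hU)
  obtain ⟨u, huV, huo, huc⟩ := exists_order_p Q V hQp hVp hV1 hVn
  refine hcard u (hVU huV) huo ?_
  have h1 : Q ≤ centralizer ({u} : Set G) := fun g hg => mem_centralizer_singleton_iff.2 (huc g hg)
  refine Dvd.dvd.trans ?_ (card_dvd_of_le h1)
  rw [← hTc]
  obtain ⟨a, ha⟩ := IsPGroup.iff_card.1 (hPp.to_le hTP)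
  obtain ⟨b, hb⟩ := IsPGroup.iff_card.1 hQp
  have h2 : Nat.card T < Nat.card Q := by
    refine lt_of_le_of_ne (Nat.le_of_dvd Nat.card_pos (card_dvd_of_le hTQ.le)) fun h => hTQ.ne ?_
    exact eq_of_le_of_card_ge hTQ.le h.ge
  rw [ha, hb] at h2
  rw [ha, hb, ← pow_succ']
  exact pow_dvd_pow p ((Nat.pow_lt_pow_iff_right hp.out.one_lt).1 h2)

/-- a `p`-subgroup of index at most `p` in a Sylow subgroup contains a central element of order `p` -/
theorem exists_full_mem {R : Subgroup G} (hR : IsPGroup p R) (hR1 : R ≠ ⊥)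
    (hG : ¬ p * (p * Nat.card R) ∣ Nat.card G) :
    ∃ y ∈ R, orderOf y = p ∧ ¬ p ∣ (centralizer ({y} : Set G)).index := by
  obtain ⟨P, hP⟩ := hR.exists_le_sylow
  have hPp := P.isPGroup'
  have hn : ∀ t ∈ (P : Subgroup G), ∀ d ∈ R, t * d * t⁻¹ ∈ R := by
    by_cases hlt : R.subgroupOf (P : Subgroup G) < ⊤
    · have hnil : Group.IsNilpotent (P : Subgroup G) := hPp.isNilpotent
      have hN := Group.normalizerCondition_of_isNilpotent (G := ↥(P : Subgroup G)) _ hlt
      set M := normalizer ((R.subgroupOf (P : Subgroup G) : Subgroup ↥(P : Subgroup G)) : Set ↥(P : Subgroup G))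
      have hM : M = ⊤ := by
        by_contra hM
        apply hG
        have hc1 : Nat.card (R.subgroupOf (P : Subgroup G)) = Nat.card R := by
          rw [← card_map_of_injective (P : Subgroup G).subtype_injective, subgroupOf_map_subtype, inf_eq_left.2 hP]
        obtain ⟨a, ha⟩ := IsPGroup.iff_card.1 (hPp.to_subgroup (R.subgroupOf (P : Subgroup G)))
        obtain ⟨b, hb⟩ := IsPGroup.iff_card.1 (hPp.to_subgroup M)
        obtain ⟨c, hc⟩ := IsPGroup.iff_card.1 hPp
        have h2 : Nat.card (R.subgroupOf (P : Subgroup G)) < Nat.card M := by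
          refine lt_of_le_of_ne (Nat.le_of_dvd Nat.card_pos (card_dvd_of_le hN.le)) fun h => hN.ne ?_
          exact eq_of_le_of_card_ge hN.le h.ge
        have h3 : Nat.card M < Nat.card (P : Subgroup G) := by
          refine lt_of_le_of_ne (Nat.le_of_dvd Nat.card_pos (card_subgroup_dvd_card M)) fun h => hM ?_
          exact eq_top_of_card_eq M h
        rw [ha, hb] at h2
        rw [hb, hc] at h3
        have h4 := (Nat.pow_lt_pow_iff_right hp.out.one_lt).1 h2
        have h5 := (Nat.pow_lt_pow_iff_right hp.out.one_lt).1 h3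
        refine Dvd.dvd.trans ?_ (card_subgroup_dvd_card (P : Subgroup G))
        rw [← hc1, ha, hc, ← pow_succ', ← pow_succ']
        exact pow_dvd_pow p (by omega)
      intro t ht d hd
      have h1 : (⟨t, ht⟩ : ↥(P : Subgroup G)) ∈ M := by rw [hM]; exact mem_top _
      exact mem_subgroupOf.1 ((mem_normalizer_iff.1 h1 ⟨d, hP hd⟩).1 (mem_subgroupOf.2 hd))
    · rw [lt_top_iff_ne_top, not_not, subgroupOf_eq_top] at hlt
      exact fun t ht d hd => mul_mem (mul_mem (hlt ht) hd) (inv_mem (hlt ht))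
  obtain ⟨y, hyR, hyo, hyc⟩ := exists_order_p (P : Subgroup G) R hPp hR hR1 hn
  refine ⟨y, hyR, hyo, fun h => P.not_dvd_index (h.trans ?_)⟩
  exact index_dvd_of_le fun g hg => mem_centralizer_singleton_iff.2 (hyc g hg)

end general

end Cfsg.Agent.H494.B0R.OrdTool
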